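import Groth.Prelude.Def_BrSev2
import Mathlib.AlgebraicGeometry.Gluing
import Mathlib.AlgebraicGeometry.Cover.Open

/-!
# Natural transformations of the functor of points over a field are morphisms
-/

set_option autoImplicit false

universe u

open CategoryTheory CategoryTheory.Limits AlgebraicGeometry

namespace Groth.L11.SBAut

variable {k : Type u} [Field k] {X : Scheme.{u}} {p : X ⟶ Spec (CommRingCat.of k)}

/-- Natural transformation of the functor of `k`-points. -/
structure PtsHom (p : X ⟶ Spec (CommRingCat.of k)) where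
  app : ∀ (R : Type u) [CommRing R] [Algebra k R], BrSev.Pts p R → BrSev.Pts p R
  nat : ∀ (R S : Type u) [CommRing R] [Algebra k R] [CommRing S] [Algebra k S] (φ : R →ₐ[k] S)
    (g : BrSev.Pts p R), app S (BrSev.Pts.map p φ g) = BrSev.Pts.map p φ (app R g)

variable (η : PtsHom p)

/-- The algebra structure on a ring given by a morphism to `X`. -/
noncomputable abbrev algOf (p : X ⟶ Spec (CommRingCat.of k)) {R : CommRingCat.{u}} (g : Spec R ⟶ X) :
    Algebra k R :=
  (Spec.preimage (g ≫ p)).hom.toAlgebra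

theorem mem_algOf (p : X ⟶ Spec (CommRingCat.of k)) {R : CommRingCat.{u}} (g : Spec R ⟶ X) :
    letI := algOf p g
    g ≫ p = Spec.map (CommRingCat.ofHom (algebraMap k R)) :=
  (Spec.map_preimage (g ≫ p)).symm

/-- The transformation on an arbitrary affine-source morphism to `X`. -/
noncomputable def appHom {R : CommRingCat.{u}} (g : Spec R ⟶ X) : Spec R ⟶ X :=
  letI := algOf p g
  (η.app R ⟨g, mem_algOf p g⟩).1

theorem appHom_eq (R : Type u) [CommRing R] [inst : Algebra k R] (g : BrSev.Pts p R) :
    appHom η (R := CommRingCat.of R) g.1 = (η.app R g).1 := by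
  have h : algOf p (R := CommRingCat.of R) g.1 = inst := Algebra.algebra_ext _ _ fun c => by
    show (Spec.preimage (g.1 ≫ p)).hom c = _
    rw [g.2, Spec.preimage_map]
    rfl
  have key : ∀ (i : Algebra k R) (_ : i = inst) (hi : g.1 ≫ p = Spec.map (CommRingCat.ofHom (@algebraMap k R _ _ i))),
      (@η.app R _ i ⟨g.1, hi⟩).1 = (@η.app R _ inst g).1 := by
    rintro i rfl hi
    rfl
  exact key _ h _

theorem appHom_comp_p {R : CommRingCat.{u}} (g : Spec R ⟶ X) : appHom η g ≫ p = g ≫ p := by
  letI := algOf p g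
  rw [mem_algOf p g]
  exact (η.app R ⟨g, mem_algOf p g⟩).2

theorem appHom_map {R S : CommRingCat.{u}} (ψ : R ⟶ S) (g : Spec R ⟶ X) :
    appHom η (Spec.map ψ ≫ g) = Spec.map ψ ≫ appHom η g := by
  letI := algOf p g
  letI : Algebra k S := algOf p (Spec.map ψ ≫ g)
  have hc : ∀ c : k, ψ.hom (algebraMap k R c) = algebraMap k S c := fun c => by
    show _ = (Spec.preimage ((Spec.map ψ ≫ g) ≫ p)).hom c
    rw [Category.assoc, mem_algOf p g, ← Spec.map_comp, Spec.preimage_map]
    rfl
  let φ : R →ₐ[k] S := ⟨ψ.hom, hc⟩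
  exact congrArg Subtype.val (η.nat R S φ ⟨g, mem_algOf p g⟩)

theorem appHom_comp {R S : CommRingCat.{u}} (q : Spec S ⟶ Spec R) (g : Spec R ⟶ X) :
    appHom η (q ≫ g) = q ≫ appHom η g := by
  obtain ⟨ψ, rfl⟩ := Spec.map_surjective q
  exact appHom_map η ψ g

theorem appHom_congr {R S T : CommRingCat.{u}} (q : Spec T ⟶ Spec R) (q' : Spec T ⟶ Spec S)
    (g : Spec R ⟶ X) (g' : Spec S ⟶ X) (h : q ≫ g = q' ≫ g') :
    q ≫ appHom η g = q' ≫ appHom η g' := by
  rw [← appHom_comp, ← appHom_comp, h]

theorem glue_cond (i j : X.affineCover.I₀) :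
    pullback.fst (X.affineCover.f i) (X.affineCover.f j) ≫ appHom η (X.affineCover.f i) =
      pullback.snd (X.affineCover.f i) (X.affineCover.f j) ≫ appHom η (X.affineCover.f j) := by
  refine Scheme.Cover.hom_ext (pullback (X.affineCover.f i) (X.affineCover.f j)).affineCover _ _ fun l => ?_
  rw [← Category.assoc, ← Category.assoc]
  exact appHom_congr η _ _ _ _ ((Category.assoc _ _ _).trans ((congrArg _ pullback.condition).trans (Category.assoc _ _ _).symm))

/-- The morphism given by a natural transformation. -/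
noncomputable def toHom : X ⟶ X :=
  X.affineCover.glueMorphisms (fun i => appHom η (X.affineCover.f i)) (glue_cond η)

theorem toHom_comp_p : toHom η ≫ p = p :=
  Scheme.Cover.hom_ext X.affineCover _ _ fun i => by
    rw [← Category.assoc, toHom, Scheme.Cover.ι_glueMorphisms]
    exact appHom_comp_p η _

theorem comp_toHom {R : CommRingCat.{u}} (g : Spec R ⟶ X) : g ≫ toHom η = appHom η g := by
  refine Scheme.Cover.hom_ext (X.affineCover.pullback₁ g) _ _ fun i => ?_
  let i' : X.affineCover.I₀ := i
  show pullback.fst g (X.affineCover.f i') ≫ _ = pullback.fst g (X.affineCover.f i') ≫ _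
  generalize i' = i
  refine Scheme.Cover.hom_ext (pullback g (X.affineCover.f i)).affineCover _ _ fun l => ?_
  change _ ≫ pullback.fst g (X.affineCover.f i) ≫ g ≫ toHom η =
    _ ≫ pullback.fst g (X.affineCover.f i) ≫ appHom η g
  rw [← Category.assoc (pullback.fst g (X.affineCover.f i)), pullback.condition, Category.assoc,
    toHom, Scheme.Cover.ι_glueMorphisms, ← Category.assoc, ← Category.assoc]
  exact appHom_congr η _ _ _ _ ((Category.assoc _ _ _).trans ((congrArg _ pullback.condition.symm).trans (Category.assoc _ _ _).symm))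

theorem pts_comp_toHom (R : Type u) [CommRing R] [Algebra k R] (g : BrSev.Pts p R) :
    g.1 ≫ toHom η = (η.app R g).1 :=
  (comp_toHom η (R := CommRingCat.of R) g.1).trans (appHom_eq η R g)

theorem key {h h' : X ⟶ X}
    (H : ∀ (R : Type u) [CommRing R] [Algebra k R] (g : BrSev.Pts p R), g.1 ≫ h = g.1 ≫ h')
    {R : CommRingCat.{u}} (g : Spec R ⟶ X) : g ≫ h = g ≫ h' := by
  letI := algOf p g
  exact H R ⟨g, mem_algOf p g⟩

/-- Morphisms over `k` agreeing on all points are equal. -/
theorem hom_ext_of_pts {h h' : X ⟶ X}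
    (H : ∀ (R : Type u) [CommRing R] [Algebra k R] (g : BrSev.Pts p R), g.1 ≫ h = g.1 ≫ h') :
    h = h' :=
  Scheme.Cover.hom_ext X.affineCover _ _ fun i => by
    exact key H _

/-- An automorphism from two inverse natural transformations. -/
noncomputable def toAut (θ : PtsHom p)
    (h1 : ∀ (R : Type u) [CommRing R] [Algebra k R] (g : BrSev.Pts p R), θ.app R (η.app R g) = g)
    (h2 : ∀ (R : Type u) [CommRing R] [Algebra k R] (g : BrSev.Pts p R), η.app R (θ.app R g) = g) :
    Aut (Over.mk p) where
  hom := Over.homMk (toHom η) (toHom_comp_p η)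
  inv := Over.homMk (toHom θ) (toHom_comp_p θ)
  hom_inv_id := Over.OverMorphism.ext <| hom_ext_of_pts (p := p) fun R _ _ g => by
    simp only [Over.comp_left, Over.homMk_left, Over.id_left, Over.mk_left, Category.comp_id]
    rw [← Category.assoc, pts_comp_toHom, pts_comp_toHom, h1]
  inv_hom_id := Over.OverMorphism.ext <| hom_ext_of_pts (p := p) fun R _ _ g => by
    simp only [Over.comp_left, Over.homMk_left, Over.id_left, Over.mk_left, Category.comp_id]
    rw [← Category.assoc, pts_comp_toHom, pts_comp_toHom, h2]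

/-- An automorphism over `k` acts on points. -/
noncomputable def actPts (g : Aut (Over.mk p)) (R : Type u) [CommRing R] [Algebra k R]
    (x : BrSev.Pts p R) : BrSev.Pts p R :=
  ⟨x.1 ≫ g.hom.left, by
    rw [Category.assoc, show g.hom.left ≫ p = p from Over.w g.hom]
    exact x.2⟩

theorem actPts_map (g : Aut (Over.mk p)) (R S : Type u) [CommRing R] [Algebra k R] [CommRing S]
    [Algebra k S] (φ : R →ₐ[k] S) (x : BrSev.Pts p R) :
    actPts g S (BrSev.Pts.map p φ x) = BrSev.Pts.map p φ (actPts g R x) :=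
  Subtype.ext (Category.assoc _ _ _)

theorem actPts_inv (g : Aut (Over.mk p)) (R : Type u) [CommRing R] [Algebra k R]
    (x : BrSev.Pts p R) : actPts g⁻¹ R (actPts g R x) = x := by
  refine Subtype.ext ?_
  show (x.1 ≫ g.hom.left) ≫ g.inv.left = x.1
  rw [Category.assoc, ← Over.comp_left, g.hom_inv_id]
  exact Category.comp_id _

end Groth.L11.SBAut
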