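import Groth.Agent.L11.SBAut.Lines
import Groth.Agent.L11.SBAut.Yoneda
import Groth.Agent.L18.ProjSpace
import Mathlib.AlgebraicGeometry.Morphisms.Basic

/-!
# The Severi–Brauer variety of a split algebra is projective space
-/

set_option autoImplicit false
set_option linter.style.haveILetI false
set_option backward.isDefEq.respectTransparency false

universe u

open CategoryTheory CategoryTheory.Limits AlgebraicGeometry
open scoped TensorProduct

namespace Groth.L11.SBAut

/-- A monomorphism admitting local sections is an isomorphism. -/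
theorem isIso_of_mono_of_lifts {Y Z : Scheme.{u}} (ψ : Y ⟶ Z) [Mono ψ]
    (h : ∀ z : Z, ∃ (W : Scheme.{u}) (g : W ⟶ Z) (_ : IsOpenImmersion g),
      z ∈ g.opensRange ∧ ∃ l : W ⟶ Y, l ≫ ψ = g) : IsIso ψ := by
  choose W g hg hz l hl using h
  refine (IsZariskiLocalAtTarget.iff_of_iSup_eq_top (P := MorphismProperty.isomorphisms Scheme.{u})
    (fun z => (g z).opensRange) (eq_top_iff.2 fun z _ => TopologicalSpace.Opens.mem_iSup.2 ⟨z, hz z⟩)).2
    fun z => ?_
  change IsIso (ψ ∣_ (g z).opensRange)
  set U := (g z).opensRange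
  haveI : Mono ((ψ ∣_ U) ≫ U.ι) := by rw [morphismRestrict_ι]; infer_instance
  haveI : Mono (ψ ∣_ U) := mono_of_mono _ U.ι
  let l' : (U : Scheme.{u}) ⟶ Y := (g z).isoOpensRange.inv ≫ l z
  have hl' : l' ≫ ψ = U.ι := by
    rw [Category.assoc, hl z]
    exact Scheme.Hom.isoOpensRange_inv_comp (g z)
  let sec : (U : Scheme.{u}) ⟶ (ψ ⁻¹ᵁ U : Scheme.{u}) := IsOpenImmersion.lift (ψ ⁻¹ᵁ U).ι l' (by
    rintro _ ⟨w, rfl⟩
    rw [Scheme.Opens.range_ι]
    show ψ (l' w) ∈ U
    rw [← Scheme.Hom.comp_apply, hl']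
    exact w.2)
  haveI : IsSplitEpi (ψ ∣_ U) := ⟨⟨sec, by
    rw [← cancel_mono U.ι, Category.assoc, morphismRestrict_ι, Category.id_comp,
      IsOpenImmersion.lift_fac_assoc, hl']⟩⟩
  exact isIso_of_mono_of_isSplitEpi _

variable {k : Type u} [Field k] {A : Type u} [Ring A] [Algebra k A] {d : ℕ}
  {X : Scheme.{u}} {f : X ⟶ Spec (CommRingCat.of k)}
  (S : BrSev.SBStr k A ((d + 1) * (d + 1) - (d + 1)) f)
  {K : Type u} [Field K] [Algebra k K] (e : K ⊗[k] A ≃ₐ[K] Matrix (Fin (d + 1)) (Fin (d + 1)) K)

/-- The algebra over `k` of a ring map from `K`. -/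
abbrev algVia (k : Type u) [Field k] {K : Type u} [Field K] [Algebra k K] {R : CommRingCat.{u}}
    (τ : K →+* R) : Algebra k R := (τ.comp (algebraMap k K)).toAlgebra

/-- The map of `k`-algebras underlying a ring map from `K`. -/
abbrev homVia (k : Type u) [Field k] {K : Type u} [Field K] [Algebra k K] {R : CommRingCat.{u}}
    (τ : K →+* R) : letI := algVia k τ; K →ₐ[k] R :=
  letI := algVia k τ
  { τ with commutes' := fun _ => rfl }

/-- The point of the base change given by homogeneous coordinates. -/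
noncomputable def linePt {R : CommRingCat.{u}} (τ : K →+* R) (v : Fin (d + 1) → R) (hv : Unimod v) :
    Spec R ⟶ BrSev.bc f K :=
  letI := algVia k τ
  pullback.lift ((S.bij R).symm (lineObj e (homVia k τ) v hv)).1 (Spec.map (CommRingCat.ofHom τ)) (by
    rw [((S.bij R).symm (lineObj e (homVia k τ) v hv)).2, ← Spec.map_comp, ← CommRingCat.ofHom_comp]
    rfl)

theorem linePt_snd {R : CommRingCat.{u}} (τ : K →+* R) (v : Fin (d + 1) → R) (hv : Unimod v) :
    linePt S e τ v hv ≫ BrSev.bcTo f K = Spec.map (CommRingCat.ofHom τ) :=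
  pullback.lift_snd _ _ _

theorem map_linePt {R T : CommRingCat.{u}} (g : R ⟶ T) (τ : K →+* R) (v : Fin (d + 1) → R)
    (hv : Unimod v) :
    Spec.map g ≫ linePt S e τ v hv =
      linePt S e (g.hom.comp τ) (g.hom ∘ v) (unimod_comp hv g.hom) := by
  letI := algVia k τ
  letI := algVia k (g.hom.comp τ)
  let φ : R →ₐ[k] T := { g.hom with commutes' := fun _ => rfl }
  refine pullback.hom_ext ?_ ?_
  · simp only [Category.assoc, linePt, pullback.lift_fst]
    have h : BrSev.Pts.map f φ ((S.bij R).symm (lineObj e (homVia k τ) v hv)) =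
        (S.bij T).symm (lineObj e (homVia k (g.hom.comp τ)) (g.hom ∘ v) (unimod_comp hv g.hom)) := by
      apply (S.bij T).injective
      refine (sbExt (S.natural _ _ φ _) : S.bij T (BrSev.Pts.map f φ _) = sbMap φ _).trans ?_
      rw [Equiv.apply_symm_apply, Equiv.apply_symm_apply, sbMap_lineObj' e]
      rfl
    exact congrArg Subtype.val h
  · simp only [Category.assoc, linePt, pullback.lift_snd]
    rw [← Spec.map_comp]
    rfl

theorem linePt_eq_iff {R : CommRingCat.{u}} (τ τ' : K →+* R) (v w : Fin (d + 1) → R) (hv : Unimod v)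
    (hw : Unimod w) :
    linePt S e τ v hv = linePt S e τ' w hw ↔ τ = τ' ∧ Par v w := by
  constructor
  · intro h
    have h1 := congrArg (· ≫ BrSev.bcTo f K) h
    simp only [linePt_snd] at h1
    obtain rfl : τ = τ' := congrArg CommRingCat.Hom.hom (Spec.map_injective h1)
    refine ⟨rfl, ?_⟩
    letI := algVia k τ
    have h2 := congrArg (· ≫ BrSev.proj f K) h
    simp only [linePt, pullback.lift_fst] at h2
    exact par_of_lineObj_eq e (homVia k τ) hv hw ((S.bij R).symm.injective (Subtype.ext h2))
  · rintro ⟨rfl, h⟩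
    letI := algVia k τ
    refine pullback.hom_ext ?_ ?_
    · simp only [linePt, pullback.lift_fst]
      rw [lineObj_eq_of_par e _ hv hw h]
    · simp only [linePt, pullback.lift_snd]

open Groth.L18 in
/-- A point of the base change is a line near every prime. -/
theorem exists_away_linePt {R : CommRingCat.{u}} (g : Spec R ⟶ BrSev.bc f K) (P : Ideal R) [P.IsPrime] :
    ∃ r : R, r ∉ P ∧ ∃ (τ : K →+* Localization.Away r) (i : Fin (d + 1))
      (v : Fin (d + 1) → Localization.Away r) (hv : IsUnit (v i)),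
      linePt S e (R := CommRingCat.of (Localization.Away r)) τ v ⟨i, hv⟩ =
        Spec.map (CommRingCat.ofHom (algebraMap R (Localization.Away r))) ≫ g := by
  let τ := (Spec.preimage (g ≫ BrSev.bcTo f K)).hom
  have hτ : g ≫ BrSev.bcTo f K = Spec.map (CommRingCat.ofHom τ) := (Spec.map_preimage _).symm
  letI := algVia k τ
  let x : BrSev.Pts f R := ⟨g ≫ BrSev.proj f K, by
    rw [Category.assoc, pullback.condition, ← Category.assoc,
      show g ≫ pullback.snd f _ = Spec.map (CommRingCat.ofHom τ) from hτ, ← Spec.map_comp,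
      ← CommRingCat.ofHom_comp]
    rfl⟩
  obtain ⟨r, hr, i, v, hv, hvN⟩ := exists_away_lineObj e (homVia k τ) (Nat.succ_pos d) (S.bij R x) P
  refine ⟨r, hr, (algebraMap R (Localization.Away r)).comp τ, i, v, hv, ?_⟩
  let T := Localization.Away r
  let φ := IsScalarTower.toAlgHom k R T
  refine pullback.hom_ext ?_ ?_
  · simp only [Category.assoc, linePt, pullback.lift_fst]
    have h : BrSev.Pts.map f φ x =
        (S.bij T).symm (lineObj e (φ.comp (homVia k τ)) v ⟨i, hv⟩) := by
      apply (S.bij T).injective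
      rw [Equiv.apply_symm_apply, hvN]
      exact sbExt (S.natural _ _ φ _)
    have key : ∀ (a : Algebra k T) (σ : @AlgHom k K T _ _ _ _ a)
        (ha : a = algVia k (R := CommRingCat.of T) ((algebraMap R T).comp τ))
        (hσ : ∀ c, σ c = algebraMap R T (τ c)),
        ((@BrSev.SBStr.bij k _ A _ _ _ _ f S T _ a).symm
          (@lineObj k _ A _ _ _ K _ _ e T _ a σ v ⟨i, hv⟩)).1 =
        (letI := algVia k (R := CommRingCat.of T) ((algebraMap R T).comp τ)
         ((S.bij T).symm (lineObj e (homVia k (R := CommRingCat.of T) ((algebraMap R T).comp τ)) v ⟨i, hv⟩)).1) := by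
      rintro a σ rfl hσ
      letI := algVia k (R := CommRingCat.of T) ((algebraMap R T).comp τ)
      rw [show σ = homVia k (R := CommRingCat.of T) ((algebraMap R T).comp τ) from AlgHom.ext hσ]
    refine ((key _ (φ.comp (homVia k τ)) (Algebra.algebra_ext _ _ fun c => rfl) fun c => rfl).symm.trans ?_)
    rw [← h]
    rfl
  · simp only [Category.assoc, linePt, pullback.lift_snd]
    rw [show g ≫ pullback.snd f _ = Spec.map (CommRingCat.ofHom τ) from hτ, ← Spec.map_comp]
    rfl

open Groth.L18 in
/-- The chart of projective space mapped to the base change. -/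
noncomputable def chartPt (i : Fin (d + 1)) :
    Spec (CommRingCat.of (HomogeneousLocalization.Away (CohB1.polyGrading d K)
      (MvPolynomial.X i : MvPolynomial (Fin (d + 1)) K))) ⟶ BrSev.bc f K :=
  linePt S e (R := CommRingCat.of _) (PS.chartScalar d K i) (fun j => PS.coord i j)
    ⟨i, by simp only [PS.coord_self, isUnit_one]⟩

open Groth.L18 in
theorem map_chartPt {T : CommRingCat.{u}} (i : Fin (d + 1))
    (φ : CommRingCat.of (HomogeneousLocalization.Away (CohB1.polyGrading d K)
      (MvPolynomial.X i : MvPolynomial (Fin (d + 1)) K)) ⟶ T) :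
    ∃ (hu : IsUnit (φ.hom (PS.coord i i))),
      Spec.map φ ≫ chartPt S e i =
        linePt S e (φ.hom.comp (PS.chartScalar d K i)) (fun j => φ.hom (PS.coord i j)) ⟨i, hu⟩ ∧
      Spec.map φ ≫ PS.chart d K i =
        PS.tuplePt (φ.hom.comp (PS.chartScalar d K i)) (fun j => φ.hom (PS.coord i j)) i hu := by
  refine ⟨by simp only [PS.coord_self, map_one, isUnit_one], map_linePt S e φ _ _ _, ?_⟩
  rw [PS.tuplePt, PS.chartHom_universal]
  rfl

open Groth.L18 in
/-- The standard cover of projective space. -/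
noncomputable def projCover (d : ℕ) (K : Type u) [Field K] : (CohB1.ProjSpace d K).OpenCover :=
  Scheme.Cover.mkOfCovers (Fin (d + 1))
    (fun i => Spec (CommRingCat.of (HomogeneousLocalization.Away (CohB1.polyGrading d K)
      (MvPolynomial.X i : MvPolynomial (Fin (d + 1)) K))))
    (fun i => PS.chart d K i)
    (fun x => by
      obtain ⟨i, hi⟩ := TopologicalSpace.Opens.mem_iSup.1
        ((PS.iSup_chart (n := d) (R := K)).ge (trivial : x ∈ (⊤ : (CohB1.ProjSpace d K).Opens)))
      rw [← PS.range_chart] at hi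
      obtain ⟨y, hy⟩ := hi
      exact ⟨i, y, hy⟩)
    (fun i => inferInstance)

open Groth.L18 in
theorem chartPt_glue (i j : Fin (d + 1)) :
    pullback.fst (PS.chart d K i) (PS.chart d K j) ≫ chartPt S e i =
      pullback.snd (PS.chart d K i) (PS.chart d K j) ≫ chartPt S e j := by
    refine Scheme.Cover.hom_ext (pullback (PS.chart d K i) (PS.chart d K j)).affineCover _ _ fun q => ?_
    obtain ⟨φ, hφ⟩ := Spec.map_surjective
      ((pullback (PS.chart d K i) (PS.chart d K j)).affineCover.f q ≫ pullback.fst _ _)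
    obtain ⟨φ', hφ'⟩ := Spec.map_surjective
      ((pullback (PS.chart d K i) (PS.chart d K j)).affineCover.f q ≫ pullback.snd _ _)
    obtain ⟨hu, h1, h2⟩ := map_chartPt S e i φ
    obtain ⟨hu', h1', h2'⟩ := map_chartPt S e j φ'
    rw [← Category.assoc, ← Category.assoc, ← hφ, ← hφ', h1, h1', linePt_eq_iff]
    have he : Spec.map φ ≫ PS.chart d K i = Spec.map φ' ≫ PS.chart d K j := by
      rw [hφ, hφ', Category.assoc, Category.assoc, pullback.condition]
    rw [h2, h2'] at he
    have hs := congrArg (· ≫ CohB1.ProjSpace.toSpec d K) he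
    simp only [PS.tuplePt_toSpec] at hs
    refine ⟨congrArg CommRingCat.Hom.hom (Spec.map_injective hs), ?_⟩
    obtain ⟨c, hc⟩ := PS.exists_smul_of_tuplePt_eq _ _ i j hu hu' he
    exact ⟨(c : _), c.isUnit, funext hc⟩

/-- Projective space mapped to the base change. -/
noncomputable def projTo : CohB1.ProjSpace d K ⟶ BrSev.bc f K :=
  (projCover d K).glueMorphisms (fun i => chartPt S e i) (chartPt_glue S e)

open Groth.L18 in
theorem chart_projTo (i : Fin (d + 1)) : PS.chart d K i ≫ projTo S e = chartPt S e i :=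
  Scheme.Cover.ι_glueMorphisms (projCover d K) _ _ i

open Groth.L18 in
theorem projTo_toSpec : projTo S e ≫ BrSev.bcTo f K = CohB1.ProjSpace.toSpec d K :=
  Scheme.Cover.hom_ext (projCover d K) _ _ fun i => by
      show PS.chart d K i ≫ projTo S e ≫ _ = PS.chart d K i ≫ _
      rw [← Category.assoc, chart_projTo, PS.chart_toSpec]
      exact linePt_snd S e _ _ _

open Groth.L18 in
theorem tuplePt_projTo (T : CommRingCat.{u}) (τ : K →+* T) (v : Fin (d + 1) → T) (i : Fin (d + 1))
    (hv : IsUnit (v i)) : PS.tuplePt τ v i hv ≫ projTo S e = linePt S e τ v ⟨i, hv⟩ := by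
    rw [PS.tuplePt, Category.assoc, chart_projTo, chartPt, map_linePt, linePt_eq_iff]
    refine ⟨PS.chartHom_comp_scalar τ v i hv, ⟨v i, hv, funext fun j => ?_⟩⟩
    show v j = v i * PS.chartHom τ v i hv (PS.coord i j)
    rw [mul_comm, PS.chartHom_coord]

open Groth.L18 in
theorem mono_projTo : Mono (projTo S e) := ⟨fun {T} a b hab => by
    refine Scheme.Cover.hom_ext ((projCover d K).pullback₁ a) _ _ fun i => ?_
    refine Scheme.Cover.hom_ext ((projCover d K).pullback₁ (pullback.fst a ((projCover d K).f i) ≫ b)) _ _ fun j => ?_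
    refine Scheme.Cover.hom_ext
      (pullback (pullback.fst a ((projCover d K).f i) ≫ b) ((projCover d K).f j)).affineCover _ _ fun q => ?_
    set w := (pullback (pullback.fst a ((projCover d K).f i) ≫ b) ((projCover d K).f j)).affineCover.f q
    obtain ⟨φ, hφ⟩ := Spec.map_surjective
      (w ≫ pullback.fst (pullback.fst a ((projCover d K).f i) ≫ b) ((projCover d K).f j) ≫ pullback.snd a ((projCover d K).f i))
    obtain ⟨φ', hφ'⟩ := Spec.map_surjective (w ≫ pullback.snd (pullback.fst a ((projCover d K).f i) ≫ b) ((projCover d K).f j))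
    obtain ⟨hu, h1, h2⟩ := map_chartPt S e i φ
    obtain ⟨hu', h1', h2'⟩ := map_chartPt S e j φ'
    have ea : w ≫ pullback.fst (pullback.fst a ((projCover d K).f i) ≫ b) ((projCover d K).f j) ≫ pullback.fst a ((projCover d K).f i) ≫ a =
        Spec.map φ ≫ PS.chart d K i := by
      rw [hφ, pullback.condition, Category.assoc, Category.assoc]
      rfl
    have eb : w ≫ pullback.fst (pullback.fst a ((projCover d K).f i) ≫ b) ((projCover d K).f j) ≫ pullback.fst a ((projCover d K).f i) ≫ b =
        Spec.map φ' ≫ PS.chart d K j := by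
      rw [hφ', pullback.condition, Category.assoc]
      rfl
    show w ≫ _ ≫ _ ≫ a = w ≫ _ ≫ _ ≫ b
    refine ea.trans (Eq.trans ?_ eb.symm)
    have heq : Spec.map φ ≫ chartPt S e i = Spec.map φ' ≫ chartPt S e j := by
      rw [← chart_projTo S e, ← chart_projTo S e, ← Category.assoc, ← Category.assoc, ← ea, ← eb]
      simp only [Category.assoc, hab]
    rw [h1, h1', linePt_eq_iff] at heq
    obtain ⟨hτ, c, hc, hcv⟩ := heq
    rw [h2, h2']
    simp only [← hτ]
    have hui : IsUnit (c * φ.hom (PS.coord i j)) := by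
      rw [← show φ'.hom (PS.coord j j) = c * φ.hom (PS.coord i j) from congrFun hcv j]
      exact hu'
    rw [← PS.tuplePt_smul (φ.hom.comp (PS.chartScalar d K i)) (fun l => φ.hom (PS.coord i l)) c j i hui hu]
    exact (PS.tuplePt_congr _ (fun l => congrFun hcv l) j j _ _).symm⟩

open Groth.L18 in
theorem lift_near {R : CommRingCat.{u}} (g : Spec R ⟶ BrSev.bc f K) [IsOpenImmersion g] (y : Spec R) :
    ∃ (W : Scheme.{u}) (g' : W ⟶ BrSev.bc f K) (_ : IsOpenImmersion g'),
      g y ∈ g'.opensRange ∧ ∃ l : W ⟶ CohB1.ProjSpace d K, l ≫ projTo S e = g' := by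
  obtain ⟨r, hr, τ, i, v, hv, h⟩ := exists_away_linePt S e g y.asIdeal
  have hy : y ∈ Set.range (Spec.map (CommRingCat.ofHom (algebraMap R (Localization.Away r)))) := by
    show y ∈ Set.range (PrimeSpectrum.comap _)
    rw [CommRingCat.hom_ofHom, PrimeSpectrum.localization_away_comap_range (Localization.Away r) r]
    exact hr
  obtain ⟨w, hw⟩ := hy
  have h2 := (tuplePt_projTo S e (CommRingCat.of (Localization.Away r)) τ v i hv).trans h
  haveI : IsOpenImmersion (Spec.map (CommRingCat.ofHom (algebraMap R (Localization.Away r)))) :=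
    IsOpenImmersion.of_isLocalization r
  refine ⟨Spec (CommRingCat.of (Localization.Away r)),
    Spec.map (CommRingCat.ofHom (algebraMap R (Localization.Away r))) ≫ g,
    IsOpenImmersion.comp _ _, ⟨w, ?_⟩, _, h2⟩
  exact (Scheme.Hom.comp_apply _ _ w).trans (congrArg g hw)

theorem isIso_projTo : IsIso (projTo S e) := by
  haveI := mono_projTo S e
  refine isIso_of_mono_of_lifts (projTo S e) fun z => ?_
  obtain ⟨j, y, hy⟩ := (BrSev.bc f K).affineCover.exists_eq z
  rw [← hy]
  exact lift_near S e _ y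

include S e in
/-- Projective space is the base change of the Severi–Brauer variety. -/
theorem exists_splitting : Nonempty (BrSev.Splitting f K d) := by
  haveI := isIso_projTo S e
  exact ⟨⟨(asIso (projTo S e)).symm, by rw [Iso.symm_hom, asIso_inv, IsIso.inv_comp_eq, projTo_toSpec]⟩⟩

end Groth.L11.SBAut
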