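import Groth.Prelude.Def_BrSev2
import Mathlib.LinearAlgebra.TensorProduct.RightExactness
import Mathlib.LinearAlgebra.Dual.Basis

/-!
# Base change and right translation of left ideals with projective quotient
-/

set_option autoImplicit false
set_option linter.style.haveILetI false

universe u

open scoped TensorProduct

namespace Groth.L11.SBAut

variable {k : Type u} [Field k] {A : Type u} [Ring A] [Algebra k A]
  {R S : Type u} [CommRing R] [Algebra k R] [CommRing S] [Algebra k S] {c : ℕ}

/-- Base change of the algebra `R ⊗ A`. -/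
noncomputable abbrev bcA (φ : R →ₐ[k] S) : R ⊗[k] A →ₐ[k] S ⊗[k] A :=
  Algebra.TensorProduct.map φ (AlgHom.id k A)

theorem baseChangeMkQ_bcA (φ : R →ₐ[k] S) (N : Submodule R (R ⊗[k] A)) (x : R ⊗[k] A) :
    letI : Algebra R S := φ.toAlgebra
    letI : IsScalarTower k R S := IsScalarTower.of_algebraMap_eq' φ.comp_algebraMap.symm
    Module.Grassmannian.baseChangeMkQ S N (bcA φ x) = (1 : S) ⊗ₜ[R] N.mkQ x := by
  letI : Algebra R S := φ.toAlgebra
  letI : IsScalarTower k R S := IsScalarTower.of_algebraMap_eq' φ.comp_algebraMap.symm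
  induction x using TensorProduct.induction_on with
  | zero => simp
  | tmul r a =>
    rw [Algebra.TensorProduct.map_tmul, AlgHom.id_apply]
    simp only [Module.Grassmannian.baseChangeMkQ, LinearMap.comp_apply, LinearEquiv.coe_coe,
      TensorProduct.AlgebraTensorModule.cancelBaseChange_symm_tmul, LinearMap.baseChange_tmul,
      Submodule.mkQ_apply]
    rw [show φ r = r • (1 : S) from (Algebra.algebraMap_eq_smul_one r), TensorProduct.smul_tmul,
      ← Submodule.Quotient.mk_smul, TensorProduct.smul_tmul', smul_eq_mul, mul_one]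
  | add x y hx hy => simp only [map_add, hx, hy, TensorProduct.tmul_add]

theorem bcA_mem_map (φ : R →ₐ[k] S) (N : Module.Grassmannian R (R ⊗[k] A) c) {x : R ⊗[k] A}
    (hx : x ∈ N.toSubmodule) : bcA φ x ∈ (Module.Grassmannian.map φ N).toSubmodule := by
  rw [Module.Grassmannian.map_toSubmodule, LinearMap.mem_ker, baseChangeMkQ_bcA,
    Submodule.mkQ_apply, (Submodule.Quotient.mk_eq_zero _).2 hx, TensorProduct.tmul_zero]

theorem map_eq_span (φ : R →ₐ[k] S) (N : Module.Grassmannian R (R ⊗[k] A) c) :
    (Module.Grassmannian.map φ N).toSubmodule = Submodule.span S (bcA φ '' (N.toSubmodule : Set _)) := by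
  refine le_antisymm (fun x hx => ?_) (Submodule.span_le.2 ?_)
  · letI : Algebra R S := φ.toAlgebra
    letI : IsScalarTower k R S := IsScalarTower.of_algebraMap_eq' φ.comp_algebraMap.symm
    rw [Module.Grassmannian.map_toSubmodule, LinearMap.mem_ker] at hx
    let e := TensorProduct.AlgebraTensorModule.cancelBaseChange k R S S A
    have hex : Function.Exact (N.toSubmodule.subtype.lTensor S) (N.toSubmodule.mkQ.lTensor S) :=
      lTensor_exact S (LinearMap.exact_subtype_mkQ _) (Submodule.mkQ_surjective _)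
    obtain ⟨z, hz⟩ := (hex (e.symm x)).1 hx
    have key : ∀ z, e (N.toSubmodule.subtype.lTensor S z) ∈
        Submodule.span S (bcA φ '' (N.toSubmodule : Set _)) := by
      intro z
      induction z using TensorProduct.induction_on with
      | zero => simp
      | tmul s y =>
        have hs : e (s ⊗ₜ[R] (y : R ⊗[k] A)) = s • bcA φ (y : R ⊗[k] A) := by
          obtain ⟨y, hy⟩ := y
          show e (s ⊗ₜ[R] y) = s • bcA φ y
          clear hy
          induction y using TensorProduct.induction_on with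
          | zero => simp
          | tmul r a =>
            rw [TensorProduct.AlgebraTensorModule.cancelBaseChange_tmul, Algebra.TensorProduct.map_tmul,
              AlgHom.id_apply, TensorProduct.smul_tmul', Algebra.smul_def, smul_eq_mul, mul_comm]
            rfl
          | add a b ha hb => simp only [TensorProduct.tmul_add, map_add, ha, hb, smul_add]
        rw [LinearMap.lTensor_tmul, Submodule.subtype_apply, hs]
        exact Submodule.smul_mem _ _ (Submodule.subset_span ⟨_, y.2, rfl⟩)
      | add a b ha hb => rw [map_add, map_add]; exact add_mem ha hb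
    simpa [hz] using key z
  · rintro _ ⟨x, hx, rfl⟩
    exact bcA_mem_map φ N hx

/-- Base change of a point of the functor of left ideals. -/
noncomputable def sbMap (φ : R →ₐ[k] S) (N : BrSev.SBSet k A c R) : BrSev.SBSet k A c S :=
  ⟨Module.Grassmannian.map φ N.1, fun a x hx => by
    rw [map_eq_span] at hx ⊢
    induction hx using Submodule.span_induction with
    | mem x hx =>
      obtain ⟨y, hy, rfl⟩ := hx
      induction a using TensorProduct.induction_on with
      | zero => simp
      | tmul s b =>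
        have : s ⊗ₜ[k] b = s • bcA φ ((1 : R) ⊗ₜ[k] b) := by
          rw [Algebra.TensorProduct.map_tmul, map_one, AlgHom.id_apply, TensorProduct.smul_tmul',
            smul_eq_mul, mul_one]
        rw [this, smul_mul_assoc, ← map_mul]
        exact Submodule.smul_mem _ _ (Submodule.subset_span ⟨_, N.2 _ y hy, rfl⟩)
      | add a b ha hb => rw [add_mul]; exact add_mem ha hb
    | zero => simp
    | add x y _ _ hx hy => rw [mul_add]; exact add_mem hx hy
    | smul s x _ hx => rw [mul_smul_comm]; exact Submodule.smul_mem _ _ hx⟩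

theorem sbExt {N N' : BrSev.SBSet k A c R} (h : N.1.toSubmodule = N'.1.toSubmodule) : N = N' :=
  Subtype.ext (Module.Grassmannian.ext h)

/-- Right translation of an ideal by a unit. -/
noncomputable def rmul (u : (R ⊗[k] A)ˣ) (N : BrSev.SBSet k A c R) : BrSev.SBSet k A c R :=
  let e : R ⊗[k] A ≃ₗ[R] R ⊗[k] A :=
    { toFun := fun x => x * u
      map_add' := fun x y => add_mul x y _
      map_smul' := fun r x => smul_mul_assoc r x _
      invFun := fun x => x * ↑u⁻¹
      left_inv := fun x => by simp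
      right_inv := fun x => by simp }
  let q := Submodule.Quotient.equiv N.1.toSubmodule (N.1.toSubmodule.map (e : R ⊗[k] A →ₗ[R] R ⊗[k] A)) e rfl
  ⟨{ toSubmodule := N.1.toSubmodule.map (e : R ⊗[k] A →ₗ[R] R ⊗[k] A)
     finite_quotient := Module.Finite.equiv q
     projective_quotient := Module.Projective.of_equiv q
     rankAtStalk_eq := fun p => by rw [← Module.rankAtStalk_eq_of_equiv q, N.1.rankAtStalk_eq] }, by
    rintro a _ ⟨y, hy, rfl⟩
    exact ⟨a * y, N.2 a y hy, mul_assoc a y _⟩⟩

theorem mem_rmul {u : (R ⊗[k] A)ˣ} {N : BrSev.SBSet k A c R} {x : R ⊗[k] A} :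
    x ∈ (rmul u N).1.toSubmodule ↔ x * ↑u⁻¹ ∈ N.1.toSubmodule := by
  constructor
  · rintro ⟨y, hy, rfl⟩
    simpa using hy
  · intro h
    exact ⟨_, h, by simp⟩

theorem rmul_one (N : BrSev.SBSet k A c R) : rmul 1 N = N :=
  sbExt (Submodule.ext fun x => by simp [mem_rmul])

theorem rmul_mul (u v : (R ⊗[k] A)ˣ) (N : BrSev.SBSet k A c R) :
    rmul (u * v) N = rmul v (rmul u N) :=
  sbExt (Submodule.ext fun x => by simp [mem_rmul, mul_assoc])

theorem rmul_eq_self_of_smul {u : (R ⊗[k] A)ˣ} {r : R} (hr : (↑u⁻¹ : R ⊗[k] A) = r • 1)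
    (hr' : IsUnit r) (N : BrSev.SBSet k A c R) : rmul u N = N :=
  sbExt (Submodule.ext fun x => by
    rw [mem_rmul, hr, mul_smul_comm, mul_one, Submodule.smul_mem_iff_of_isUnit _ hr'])

theorem sbMap_rmul (φ : R →ₐ[k] S) (u : (R ⊗[k] A)ˣ) (N : BrSev.SBSet k A c R) :
    sbMap φ (rmul u N) = rmul (Units.map (bcA (A := A) φ : R ⊗[k] A →ₐ[k] S ⊗[k] A).toMonoidHom u) (sbMap φ N) := by
  refine sbExt ?_
  show (Module.Grassmannian.map φ (rmul u N).1).toSubmodule =
    (Module.Grassmannian.map φ N.1).toSubmodule.map _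
  rw [map_eq_span, map_eq_span, Submodule.map_span]
  congr 1
  ext x
  constructor
  · rintro ⟨_, ⟨y, hy, rfl⟩, rfl⟩
    exact ⟨bcA φ y, ⟨y, hy, rfl⟩, (map_mul (bcA φ) y ↑u).symm⟩
  · rintro ⟨_, ⟨y, hy, rfl⟩, rfl⟩
    exact ⟨y * ↑u, ⟨y, hy, rfl⟩, map_mul (bcA φ) y ↑u⟩

/-- A family of maps which is jointly injective on `R` detects left ideals. -/
theorem sb_eq_of_forall_map {ι : Type*} (T : ι → Type u) [∀ i, CommRing (T i)] [∀ i, Algebra k (T i)]
    (φ : ∀ i, R →ₐ[k] T i) (hφ : ∀ r : R, (∀ i, φ i r = 0) → r = 0) {N N' : BrSev.SBSet k A c R}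
    (h : ∀ i, sbMap (φ i) N = sbMap (φ i) N') : N = N' := by
  have key : ∀ M M' : BrSev.SBSet k A c R, (∀ i, sbMap (φ i) M = sbMap (φ i) M') →
      M.1.toSubmodule ≤ M'.1.toSubmodule := by
    intro M M' h x hx
    haveI := M'.1.projective_quotient
    rw [← Submodule.Quotient.mk_eq_zero]
    refine (Module.forall_dual_apply_eq_zero_iff R _).1 fun f => hφ _ fun i => ?_
    have hm : bcA (φ i) x ∈ (sbMap (φ i) M').1.toSubmodule := h i ▸ bcA_mem_map (φ i) M.1 hx
    letI : Algebra R (T i) := (φ i).toAlgebra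
    letI : IsScalarTower k R (T i) := IsScalarTower.of_algebraMap_eq' (φ i).comp_algebraMap.symm
    have h1 : (1 : T i) ⊗ₜ[R] M'.1.toSubmodule.mkQ x = 0 := by
      rw [← baseChangeMkQ_bcA (φ i) M'.1.toSubmodule x]
      exact hm
    have h2 := congrArg ((TensorProduct.AlgebraTensorModule.rid R (T i) (T i)).toLinearMap ∘ₗ
      f.baseChange (T i)) h1
    rw [map_zero, LinearMap.comp_apply, LinearMap.baseChange_tmul] at h2
    simpa [Algebra.smul_def, RingHom.algebraMap_toAlgebra] using h2
  exact sbExt (le_antisymm (key N N' h) (key N' N fun i => (h i).symm))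

end Groth.L11.SBAut
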