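import Mathlib.RingTheory.MvPolynomial.Homogeneous
import Mathlib.RingTheory.Polynomial.UniqueFactorization
import Mathlib.RingTheory.Localization.FractionRing
import Mathlib.RingTheory.Localization.AtPrime.Basic
import Mathlib.LinearAlgebra.Matrix.NonsingularInverse
import Mathlib.RingTheory.MvPolynomial.Ideal
import Mathlib.Algebra.MvPolynomial.NoZeroDivisors
import Mathlib.Algebra.MvPolynomial.Nilpotent

/-!
# Automorphisms of the functor of lines are linear

A natural bijection on lines of `R ^ n` for local `K`-algebras `R` is given by an invertible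
matrix over `K`.
-/

set_option autoImplicit false
set_option linter.style.haveILetI false

universe u

open MvPolynomial

namespace Groth.L11.SBAut

/-- Some coordinate is a unit. -/
def Unimod {R : Type u} [CommRing R] {n : ℕ} (v : Fin n → R) : Prop := ∃ i, IsUnit (v i)

/-- Proportional with a unit factor. -/
def Par {R : Type u} [CommRing R] {n : ℕ} (v w : Fin n → R) : Prop := ∃ c : R, IsUnit c ∧ w = c • v

namespace Par

variable {R : Type u} [CommRing R] {n : ℕ} {u v w : Fin n → R}

theorem refl (v : Fin n → R) : Par v v := ⟨1, isUnit_one, (one_smul _ _).symm⟩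

theorem symm (h : Par v w) : Par w v := by
  obtain ⟨c, ⟨c', rfl⟩, rfl⟩ := h
  exact ⟨↑c'⁻¹, Units.isUnit _, by rw [smul_smul, Units.inv_mul, one_smul]⟩

theorem trans (h : Par u v) (h' : Par v w) : Par u w := by
  obtain ⟨c, hc, rfl⟩ := h
  obtain ⟨d, hd, rfl⟩ := h'
  exact ⟨d * c, hd.mul hc, smul_smul _ _ _⟩

theorem map {S : Type u} [CommRing S] (ψ : R →+* S) (h : Par v w) : Par (ψ ∘ v) (ψ ∘ w) := by
  obtain ⟨c, hc, rfl⟩ := h
  exact ⟨ψ c, hc.map ψ, funext fun i => map_mul ψ c (v i)⟩

theorem cross (h : Par v w) (i j : Fin n) : v i * w j = v j * w i := by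
  obtain ⟨c, -, rfl⟩ := h
  simp only [Pi.smul_apply, smul_eq_mul]
  ring

theorem unimod (h : Par v w) (hv : Unimod v) : Unimod w := by
  obtain ⟨c, hc, rfl⟩ := h
  obtain ⟨i, hi⟩ := hv
  exact ⟨i, hc.mul hi⟩

/-- Proportionality from the cross relations, for unimodular vectors. -/
theorem of_cross [IsLocalRing R] (hv : Unimod v) (hw : Unimod w)
    (h : ∀ i j, v i * w j = v j * w i) : Par v w := by
  obtain ⟨i, hi⟩ := hv
  obtain ⟨a, ha⟩ := hi
  refine ⟨↑a⁻¹ * w i, ?_, funext fun j => ?_⟩
  · obtain ⟨l, hl⟩ := hw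
    have : w l = ↑a⁻¹ * w i * v l := by
      rw [mul_assoc, mul_comm (w i), ← h i l, ← ha, Units.inv_mul_cancel_left]
    exact isUnit_of_mul_isUnit_left (this ▸ hl)
  · simp only [Pi.smul_apply, smul_eq_mul]
    rw [mul_assoc, mul_comm (w i), ← h i j, ← ha, Units.inv_mul_cancel_left]

end Par

/-- A natural transformation of lines over local `K`-algebras. -/
structure LineFun (K : Type u) [Field K] (n : ℕ) where
  app : ∀ (R : Type u) [CommRing R] [IsLocalRing R] [Algebra K R], (Fin n → R) → (Fin n → R)
  unimod : ∀ (R : Type u) [CommRing R] [IsLocalRing R] [Algebra K R] (v : Fin n → R),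
    Unimod v → Unimod (app R v)
  congr : ∀ (R : Type u) [CommRing R] [IsLocalRing R] [Algebra K R] (v w : Fin n → R),
    Unimod v → Par v w → Par (app R v) (app R w)
  nat : ∀ (R S : Type u) [CommRing R] [IsLocalRing R] [Algebra K R] [CommRing S] [IsLocalRing S]
    [Algebra K S] (ψ : R →ₐ[K] S) (v : Fin n → R), Unimod v → Par (ψ ∘ app R v) (app S (ψ ∘ v))

variable {K : Type u} [Field K] {n : ℕ}

local notation "P" => MvPolynomial (Fin n) K

/-- Primitive vector of polynomials. -/
def Prim (p : Fin n → P) : Prop := ∀ π : P, Prime π → ∃ i, ¬ π ∣ p i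

/-- Evaluation of a vector of polynomials. -/
noncomputable def evalVec {R : Type u} [CommRing R] [Algebra K R] (p : Fin n → P) (v : Fin n → R) : Fin n → R :=
  fun i => aeval v (p i)

theorem exists_prim (w : Fin n → FractionRing P) (hw : Unimod w) :
    ∃ p : Fin n → P, Prim p ∧ Par w (fun i => algebraMap P (FractionRing P) (p i)) := by
  classical
  obtain ⟨l, hl⟩ := hw
  let S : Set ℕ := {m | ∃ p : Fin n → P, Par w (fun i => algebraMap P (FractionRing P) (p i)) ∧
    (p l).totalDegree = m}
  have hS : S.Nonempty := by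
    obtain ⟨b, hb⟩ := IsLocalization.exist_integer_multiples (nonZeroDivisors P) Finset.univ w
    choose q hq using fun i => hb i (Finset.mem_univ i)
    refine ⟨_, q, ⟨algebraMap P (FractionRing P) b, IsLocalization.map_units _ b, funext fun i => ?_⟩, rfl⟩
    rw [hq i, Pi.smul_apply, Algebra.smul_def, smul_eq_mul]
  obtain ⟨p, hp, hpdeg⟩ := Nat.sInf_mem hS
  refine ⟨p, fun π hπ => ?_, hp⟩
  by_contra hall
  push Not at hall
  choose q hq using hall
  have hpl : p l ≠ 0 := by
    intro h0
    obtain ⟨c, hc, he⟩ := hp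
    have := congrFun he l
    simp only [h0, map_zero, Pi.smul_apply, smul_eq_mul] at this
    exact (hc.mul hl).ne_zero this.symm
  have hπ0 : algebraMap P (FractionRing P) π ≠ 0 :=
    (map_ne_zero_iff _ (IsFractionRing.injective P (FractionRing P))).2 hπ.ne_zero
  have hq' : Par w (fun i => algebraMap P (FractionRing P) (q i)) := by
    refine hp.trans ⟨(algebraMap P (FractionRing P) π)⁻¹, (inv_ne_zero hπ0).isUnit, funext fun i => ?_⟩
    rw [Pi.smul_apply, smul_eq_mul, hq i, map_mul, inv_mul_cancel_left₀ hπ0]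
  have hle : sInf S ≤ (q l).totalDegree := Nat.sInf_le ⟨q, hq', rfl⟩
  have hql : q l ≠ 0 := fun h => hpl (by rw [hq l, h, mul_zero])
  have hdeg : (p l).totalDegree = π.totalDegree + (q l).totalDegree := by
    rw [hq l, totalDegree_mul_of_isDomain hπ.ne_zero hql]
  have hπdeg : π.totalDegree ≠ 0 := fun h => hπ.not_unit (by
    rw [(totalDegree_eq_zero_iff_eq_C).1 h] at hπ ⊢
    exact (isUnit_iff_ne_zero.2 fun h0 => hπ.ne_zero (by rw [h0, map_zero])).map _)
  omega

theorem dvd_of_prim {p : Fin n → P} (hp : Prim p) : ∀ {A H : P}, A ≠ 0 →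
    (∀ i, A ∣ H * p i) → A ∣ H := by
  intro A
  induction A using UniqueFactorizationMonoid.induction_on_prime with
  | h₁ => intro H h; exact absurd rfl h
  | h₂ a ha => intro H _ _; exact ha.dvd
  | h₃ a π ha hπ ih =>
    intro H _ h
    obtain ⟨i, hi⟩ := hp π hπ
    obtain ⟨H', rfl⟩ := (hπ.dvd_or_dvd ((dvd_mul_right π a).trans (h i))).resolve_right hi
    refine mul_dvd_mul_left π (ih ha fun j => ?_)
    have := h j
    rw [mul_assoc] at this
    exact (mul_dvd_mul_iff_left hπ.ne_zero).1 this

/-- A primitive vector proportional to its scalings is homogeneous. -/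
theorem exists_isHomogeneous {p : Fin n → P} (hp : Prim p) (hne : ∃ i, p i ≠ 0)
    (h : ∀ (m : ℕ) (i j : Fin n),
      homogeneousComponent m (p i) * p j = p i * homogeneousComponent m (p j)) :
    ∃ d, ∀ i, (p i).IsHomogeneous d := by
  obtain ⟨j, hj⟩ := hne
  set d := (p j).totalDegree
  refine ⟨d, ?_⟩
  set H := homogeneousComponent d (p j)
  have hH : H ≠ 0 := by
    intro h0
    obtain ⟨m, hm, hmd⟩ := Finset.exists_mem_eq_sup (p j).support (support_nonempty.2 hj) fun s => s.sum fun _ e => e
    have hmd' : d = Finsupp.degree m := hmd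
    have := congrArg (coeff m) h0
    rw [coeff_homogeneousComponent, if_pos hmd'.symm, coeff_zero] at this
    exact mem_support_iff.1 hm this
  have hHhom : H.IsHomogeneous d := homogeneousComponent_isHomogeneous d (p j)
  obtain ⟨c, hc⟩ := dvd_of_prim hp hj (H := H) fun i =>
    ⟨homogeneousComponent d (p i), by rw [mul_comm (p j), h d i j, mul_comm]⟩
  have hc0 : c ≠ 0 := fun h0 => hH (by rw [hc, h0, mul_zero])
  have hdeg : d + c.totalDegree = d := by
    rw [← totalDegree_mul_of_isDomain hj hc0, ← hc]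
    exact hHhom.totalDegree hH
  obtain ⟨r, rfl⟩ : ∃ r, c = C r := ⟨_, totalDegree_eq_zero_iff_eq_C.1 (by omega)⟩
  have hr : r ≠ 0 := fun h0 => hc0 (by rw [h0, map_zero])
  have hpj : (p j).IsHomogeneous d := by
    have : p j = C r⁻¹ * H := by
      rw [hc, mul_left_comm, ← map_mul, inv_mul_cancel₀ hr, map_one, mul_one]
    rw [this]
    simpa using (isHomogeneous_C (Fin n) r⁻¹).mul hHhom
  have hjj : H = p j := by
    rw [show H = homogeneousComponent d (p j) from rfl, homogeneousComponent_of_mem hpj, if_pos rfl]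
  intro i
  have h1 := h d i j
  rw [show homogeneousComponent d (p j) = H from rfl, hjj] at h1
  rw [← mul_right_cancel₀ hj h1]
  exact homogeneousComponent_isHomogeneous d (p i)

variable (f : LineFun K n)

/-- The vector `x / x i` at a prime not containing `x i`, up to scaling: `x` itself. -/
theorem unimod_X (i : Fin n) (𝔭 : Ideal P) [𝔭.IsPrime] (hi : (X i : P) ∉ 𝔭) :
    Unimod (fun j => algebraMap P (Localization.AtPrime 𝔭) (X j)) :=
  ⟨i, IsLocalization.map_units (Localization.AtPrime 𝔭) (⟨X i, hi⟩ : 𝔭.primeCompl)⟩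

/-- A primitive representative of the image of the generic point has no common zero, and gives
the transformation everywhere. -/
theorem exists_rep : ∃ p : Fin n → P, Prim p ∧
    (∀ (R : Type u) [CommRing R] [IsLocalRing R] [Algebra K R] (v : Fin n → R), Unimod v →
      Par (f.app R v) (evalVec p v)) ∨ n = 0 := by
  rcases Nat.eq_zero_or_pos n with h0 | hn
  · exact ⟨0, Or.inr h0⟩
  let F := FractionRing P
  let xF : Fin n → F := fun j => algebraMap P F (X j)
  have hxF : Unimod xF := ⟨⟨0, hn⟩, ((map_ne_zero_iff _ (IsFractionRing.injective P F)).2 (X_ne_zero _)).isUnit⟩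
  obtain ⟨p, hp, hpar⟩ := exists_prim _ (f.unimod F xF hxF)
  refine ⟨p, Or.inl ⟨hp, ?_⟩⟩
  intro R _ _ _ v hv
  obtain ⟨i, hi⟩ := hv
  let ev : P →ₐ[K] R := aeval v
  let 𝔭 : Ideal P := (IsLocalRing.maximalIdeal R).comap ev.toRingHom
  haveI : 𝔭.IsPrime := Ideal.IsPrime.comap _
  let L := Localization.AtPrime 𝔭
  have hev : ∀ y : 𝔭.primeCompl, IsUnit (ev y) := fun y => not_not.1 y.2
  let ψ : L →ₐ[K] R := IsLocalization.liftAlgHom (f := ev) hev
  have hψ : ∀ q : P, ψ (algebraMap P L q) = ev q := fun q => IsLocalization.lift_eq hev q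
  let x : Fin n → L := fun j => algebraMap P L (X j)
  have hxi : (X i : P) ∉ 𝔭 := fun h => by
    have : v i ∈ IsLocalRing.maximalIdeal R := by simpa [𝔭, ev] using h
    exact this hi
  have hx : Unimod x := unimod_X i 𝔭 hxi
  have hwu := f.unimod L x hx
  let τ : L →ₐ[K] F := IsLocalization.liftAlgHom (M := 𝔭.primeCompl) (f := IsScalarTower.toAlgHom K P F)
    fun y => ((map_ne_zero_iff _ (IsFractionRing.injective P F)).2
      fun h => y.2 (by rw [h]; exact zero_mem _)).isUnit
  have hτ : ∀ q : P, τ (algebraMap P L q) = algebraMap P F q := fun q => IsLocalization.lift_eq _ q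
  have hτinj : Function.Injective τ := by
    refine (IsLocalization.lift_injective_iff _).2 fun a b => ⟨fun h => ?_, fun h => ?_⟩
    · exact congrArg (algebraMap P F) (IsLocalization.injective L
        (Ideal.primeCompl_le_nonZeroDivisors 𝔭) h)
    · exact congrArg (algebraMap P L) (IsFractionRing.injective P F h)
  have h1 : Par (τ ∘ f.app L x) (fun j => algebraMap P F (p j)) := by
    refine (f.nat L F τ x hx).trans ?_
    have : τ ∘ x = xF := funext fun j => hτ (X j)
    rw [this]
    exact hpar
  have hcross : ∀ a b, f.app L x a * algebraMap P L (p b) = f.app L x b * algebraMap P L (p a) :=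
    fun a b => hτinj (by rw [map_mul, map_mul, hτ, hτ]; exact h1.cross a b)
  -- the vector `p` does not vanish at `𝔭`
  have hnz : Unimod (fun j => algebraMap P L (p j)) := by
    by_contra hall
    obtain ⟨l, hl⟩ := hwu
    obtain ⟨a, ha⟩ := hl
    have hmem : ∀ j, p j ∈ 𝔭 := fun j => by
      by_contra hj
      exact hall ⟨j, IsLocalization.map_units L (⟨p j, hj⟩ : 𝔭.primeCompl)⟩
    have hpl : p l ≠ 0 := by
      intro h0
      obtain ⟨c, hc, he⟩ := h1
      have := congrFun he l
      simp only [h0, map_zero, Pi.smul_apply, Function.comp_apply, smul_eq_mul] at this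
      exact (hc.mul ((a.isUnit.map τ.toRingHom))).ne_zero (by
        rw [show (τ.toRingHom (a : L)) = τ (f.app L x l) from congrArg τ ha]; exact this.symm)
    obtain ⟨π, hπ𝔭, hπ⟩ : ∃ π ∈ UniqueFactorizationMonoid.factors (p l), π ∈ 𝔭 := by
      obtain ⟨e, he⟩ := UniqueFactorizationMonoid.factors_prod hpl
      have : (UniqueFactorizationMonoid.factors (p l)).prod * e ∈ 𝔭 := by
        rw [he]; exact hmem l
      rcases Ideal.IsPrime.mem_or_mem inferInstance this with h | h
      · exact (Ideal.IsPrime.multiset_prod_mem_iff_exists_mem inferInstance _).1 h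
      · exact absurd (Ideal.eq_top_of_isUnit_mem _ h e.isUnit) Ideal.IsPrime.ne_top'
    obtain ⟨b, hb⟩ := UniqueFactorizationMonoid.dvd_of_mem_factors hπ𝔭
    have hprime := UniqueFactorizationMonoid.prime_of_factor π hπ𝔭
    obtain ⟨j, hj⟩ := hp π hprime
    refine hj ?_
    have h2 := hcross l j
    rw [hb, map_mul, ← ha] at h2
    have h3 : algebraMap P L (p j) ∈ Ideal.span {algebraMap P L π} := by
      refine Ideal.mem_span_singleton'.2 ⟨↑a⁻¹ * f.app L x j * algebraMap P L b, ?_⟩
      rw [← Units.inv_mul_cancel_left a (algebraMap P L (p j)), h2]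
      ring
    rw [← Set.image_singleton, ← Ideal.map_span,
      IsLocalization.algebraMap_mem_map_algebraMap_iff 𝔭.primeCompl] at h3
    obtain ⟨s, hs, hsm⟩ := h3
    obtain h | h := hprime.dvd_or_dvd (Ideal.mem_span_singleton.1 hsm)
    · exact absurd (Ideal.mem_of_dvd _ h hπ) hs
    · exact h
  have h4 := Par.of_cross hwu hnz hcross
  have h5 := (f.nat L R ψ x hx).symm.trans (h4.map ψ.toRingHom)
  have e1 : (ψ.toRingHom ∘ fun j => algebraMap P L (p j)) = evalVec p v := funext fun j => hψ (p j)
  have e2 : ψ ∘ x = v := funext fun j => by simp [x, hψ, ev]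
  rw [e1, e2] at h5
  exact h5

theorem homogeneous_of_rep {p : Fin n → P} (hn : 0 < n) (hp : Prim p)
    (hrep : ∀ (R : Type u) [CommRing R] [IsLocalRing R] [Algebra K R] (v : Fin n → R), Unimod v →
      Par (f.app R v) (evalVec p v)) : ∃ d, ∀ i, (p i).IsHomogeneous d := by
  let R := FractionRing (Polynomial P)
  let ι : Polynomial P →ₐ[K] R := IsScalarTower.toAlgHom K (Polynomial P) R
  have hι : Function.Injective ι := IsFractionRing.injective (Polynomial P) R
  let v : Fin n → R := fun i => ι (Polynomial.C (X i))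
  let t : R := ι Polynomial.X
  let w : Fin n → R := fun i => ι (Polynomial.C (X i) * Polynomial.X)
  have ht : IsUnit t := ((map_ne_zero_iff ι hι).2 Polynomial.X_ne_zero).isUnit
  have hv : Unimod v := ⟨⟨0, hn⟩, ((map_ne_zero_iff ι hι).2
    (Polynomial.C_ne_zero.2 (X_ne_zero _))).isUnit⟩
  have hvw : Par v w := ⟨t, ht, funext fun i => (map_mul ι _ _).trans (mul_comm _ _)⟩
  have h1 : Par (evalVec p v) (evalVec p w) :=
    ((hrep R v hv).symm.trans (f.congr R v w hv hvw)).trans (hrep R w (hvw.unimod hv))
  have hevv : ∀ q : P, aeval v q = ι (Polynomial.C q) := fun q => by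
    have : aeval v = ι.comp (IsScalarTower.toAlgHom K P (Polynomial P)) := algHom_ext fun i => by
      simp [v, Polynomial.algebraMap_eq]
    rw [this]; rfl
  let θ : P →ₐ[K] Polynomial P := aeval fun i => Polynomial.C (X i) * Polynomial.X
  have hevw : ∀ q : P, aeval w q = ι (θ q) := fun q => by
    have : aeval w = ι.comp θ := algHom_ext fun i => by simp [w, θ]
    rw [this]; rfl
  have hθ : ∀ (q : P) (m : ℕ), (θ q).coeff m = homogeneousComponent m q := by
    intro q m
    induction q using MvPolynomial.induction_on' with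
    | monomial s a =>
      have : θ (monomial s a) = Polynomial.monomial (Finsupp.degree s) (monomial s a) := by
        rw [← Polynomial.C_mul_X_pow_eq_monomial, monomial_eq, map_mul, map_mul Polynomial.C, Finsupp.prod,
          map_prod, map_prod Polynomial.C, show θ (C a) = Polynomial.C (C a) by simp [θ]]
        simp only [map_pow, θ, aeval_X, mul_pow, Finset.prod_mul_distrib, Finset.prod_pow_eq_pow_sum,
          mul_assoc]
        rfl
      rw [this, Polynomial.coeff_monomial, homogeneousComponent_of_mem (isHomogeneous_monomial a rfl)]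
      by_cases hm : Finsupp.degree s = m
      · rw [if_pos hm, if_pos hm.symm]
      · rw [if_neg hm, if_neg (Ne.symm hm)]
    | add a b ha hb => rw [map_add, Polynomial.coeff_add, ha, hb, map_add]
  have hne : ∃ i, p i ≠ 0 := by
    obtain ⟨i, hi⟩ := (hrep R v hv).unimod (f.unimod R v hv)
    exact ⟨i, fun h => hi.ne_zero (by simp [evalVec, h])⟩
  refine exists_isHomogeneous hp hne fun m i j => ?_
  have h2 := h1.cross j i
  simp only [evalVec, hevv, hevw, ← map_mul] at h2
  have h3 := congrArg (fun q => q.coeff m) (hι h2)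
  simp only [Polynomial.coeff_C_mul, hθ] at h3
  rw [mul_comm, h3]

/-- The linearity theorem. -/
theorem exists_matrix (g : LineFun K n)
    (hgf : ∀ (R : Type u) [CommRing R] [IsLocalRing R] [Algebra K R] (v : Fin n → R), Unimod v →
      Par (g.app R (f.app R v)) v) :
    ∃ M : Matrix (Fin n) (Fin n) K, IsUnit M ∧
      ∀ (R : Type u) [CommRing R] [IsLocalRing R] [Algebra K R] (v : Fin n → R), Unimod v →
        Par (f.app R v) (Matrix.vecMul v (M.map (algebraMap K R))) := by
  rcases Nat.lt_or_ge n 2 with hn1 | hn2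
  · refine ⟨1, isUnit_one, fun R _ _ _ v hv => ?_⟩
    haveI : Subsingleton (Fin n) := Fin.subsingleton_iff_le_one.2 (by omega)
    rw [Matrix.map_one _ (map_zero _) (map_one _), Matrix.vecMul_one]
    exact Par.of_cross (f.unimod R v hv) hv fun i j => by rw [Subsingleton.elim i j]
  have hn : 0 < n := by omega
  obtain ⟨p, (⟨hp, hprep⟩ | h0)⟩ := exists_rep f
  swap
  · omega
  obtain ⟨q, (⟨hq, hqrep⟩ | h0)⟩ := exists_rep g
  swap
  · omega
  obtain ⟨d, hd⟩ := homogeneous_of_rep f hn hp hprep
  obtain ⟨e, he⟩ := homogeneous_of_rep g hn hq hqrep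
  let G : Fin n → P := fun i => aeval p (q i)
  have hG : ∀ (R : Type u) [CommRing R] [IsLocalRing R] [Algebra K R] (v : Fin n → R), Unimod v →
      Par v (evalVec G v) := fun R _ _ _ v hv => by
    have h1 := (hgf R v hv).symm.trans (g.congr R _ _ (f.unimod R v hv) (hprep R v hv))
    have h2 := h1.trans (hqrep R _ ((hprep R v hv).unimod (f.unimod R v hv)))
    have : evalVec q (evalVec p v) = evalVec G v := funext fun i => by
      show aeval (fun j => aeval v (p j)) (q i) = aeval v (aeval p (q i))
      rw [← AlgHom.comp_apply, comp_aeval]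
    rwa [this] at h2
  let xF : Fin n → FractionRing P := fun j => algebraMap P (FractionRing P) (X j)
  have hinj := IsFractionRing.injective P (FractionRing P)
  have hxF : Unimod xF := ⟨⟨0, hn⟩, ((map_ne_zero_iff _ hinj).2 (X_ne_zero _)).isUnit⟩
  have hevx : ∀ r : P, aeval xF r = algebraMap P (FractionRing P) r := fun r => by
    have : aeval xF = IsScalarTower.toAlgHom K P (FractionRing P) := algHom_ext fun i => by simp [xF]
    rw [this]; rfl
  have hcross : ∀ i j, X i * G j = X j * G i := fun i j => hinj (by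
    have := (hG _ xF hxF).cross i j
    simp only [evalVec, hevx] at this
    simpa [xF] using this)
  have hndvd : ∀ i j : Fin n, i ≠ j → ¬ (X i : P) ∣ X j := fun i j hij h => by
    obtain ⟨c, hc⟩ := h
    have := congrArg (eval fun l => if l = i then (0 : K) else 1) hc
    simp [hij.symm] at this
  have hXp : ∀ i : Fin n, Prime (X i : P) := fun i => MvPolynomial.X_prime
  let i₀ : Fin n := ⟨0, hn⟩
  let i₁ : Fin n := ⟨1, by omega⟩
  have h01 : i₀ ≠ i₁ := by simp [i₀, i₁, Fin.ext_iff]
  obtain ⟨H, hH⟩ : (X i₀ : P) ∣ G i₀ :=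
    ((hXp i₀).dvd_or_dvd ⟨G i₁, (hcross i₀ i₁).symm⟩).resolve_left (hndvd i₀ i₁ h01)
  have hGH : ∀ i, G i = H * X i := fun i => mul_left_cancel₀ (X_ne_zero i₀) (by
    rw [hcross i₀ i, hH]; ring)
  have hGhom : ∀ i, (G i).IsHomogeneous (d * e) := fun i => (he i).aeval p hd
  obtain ⟨i₂, hG2⟩ := (hG _ xF hxF).unimod hxF
  have hH0 : H ≠ 0 := fun h => hG2.ne_zero (by simp [evalVec, hGH, h, map_mul])
  have hde : H.totalDegree + 1 = d * e := by
    have h1 := totalDegree_mul_of_isDomain hH0 (X_ne_zero i₀ : (X i₀ : P) ≠ 0)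
    rw [← hGH, (hGhom i₀).totalDegree (by rw [hGH]; exact mul_ne_zero hH0 (X_ne_zero _)),
      totalDegree_X] at h1
    exact h1.symm
  have hHunit : IsUnit H := by
    by_contra hu
    obtain ⟨π, hπ, hπH⟩ := WfDvdMonoid.exists_irreducible_factor hu hH0
    have hπp := UniqueFactorizationMonoid.irreducible_iff_prime.1 hπ
    haveI : (Ideal.span {π}).IsPrime := (Ideal.span_singleton_prime hπp.ne_zero).2 hπp
    obtain ⟨i, hi⟩ : ∃ i, (X i : P) ∉ Ideal.span {π} := by
      by_contra hall
      push Not at hall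
      simp only [Ideal.mem_span_singleton] at hall
      exact hndvd i₀ i₁ h01 ((hπ.associated_of_dvd (hXp i₀).irreducible (hall i₀)).symm.dvd.trans (hall i₁))
    let L := Localization.AtPrime (Ideal.span {π})
    obtain ⟨l, hl⟩ := (hG L _ (unimod_X i (Ideal.span {π}) hi)).unimod (unimod_X i _ hi)
    have hev : aeval (fun j => algebraMap P L (X j)) (G l) = algebraMap P L (G l) := by
      have : aeval (fun j => algebraMap P L (X j)) = IsScalarTower.toAlgHom K P L := algHom_ext fun i => by simp
      rw [this]; rfl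
    rw [evalVec, hev, IsLocalization.AtPrime.isUnit_to_map_iff L (Ideal.span {π})] at hl
    exact hl (Ideal.mem_span_singleton.2 (hπH.trans ⟨X l, hGH l⟩))
  obtain ⟨r, hr, rfl⟩ := MvPolynomial.isUnit_iff_eq_C_of_isReduced.1 hHunit
  rw [totalDegree_C, zero_add] at hde
  obtain ⟨rfl, rfl⟩ : d = 1 ∧ e = 1 := ⟨Nat.eq_one_of_mul_eq_one_right hde.symm,
    Nat.eq_one_of_mul_eq_one_left hde.symm⟩
  let M : Matrix (Fin n) (Fin n) K := fun i j => coeff (Finsupp.single i 1) (p j)
  let N : Matrix (Fin n) (Fin n) K := fun i j => coeff (Finsupp.single i 1) (q j)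
  have hlin : ∀ (p : P), p.IsHomogeneous 1 → p = ∑ i, C (coeff (Finsupp.single i 1) p) * X i := by
    intro p hp
    ext s
    simp only [coeff_sum, coeff_C_mul, coeff_X', mul_ite, mul_one, mul_zero]
    by_cases hs : Finsupp.degree s = 1
    · obtain ⟨i, rfl⟩ : ∃ i, s = Finsupp.single i 1 := by
        obtain ⟨i, hi⟩ : ∃ i, s i ≠ 0 := by
          by_contra hall
          push Not at hall
          rw [show s = 0 from Finsupp.ext hall] at hs
          simp at hs
        have h1 : Finsupp.single i (s i) + s.erase i = s := Finsupp.single_add_erase i s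
        have h2 := congrArg Finsupp.degree h1
        rw [map_add, Finsupp.degree_single, hs] at h2
        refine ⟨i, ?_⟩
        have h3 : s.erase i = 0 := (Finsupp.degree_eq_zero_iff _).1 (by omega)
        have h4 : s i = 1 := by rw [h3, map_zero] at h2; omega
        rw [← h1, h3, add_zero, h4]
      simp [Finsupp.single_eq_single_iff]
    · rw [hp.coeff_eq_zero hs, Finset.sum_eq_zero]
      intro i _
      rw [if_neg]
      rintro rfl
      simp at hs
  have hMN : M * N = r • 1 := by
    ext i l
    have h1 := congrArg (coeff (Finsupp.single i 1)) (hGH l)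
    have h2 : G l = ∑ j, C (N j l) * p j := by
      show aeval p (q l) = _
      conv_lhs => rw [hlin (q l) (he l)]
      simp [map_sum, N]
    rw [h2, coeff_sum, coeff_C_mul, coeff_X'] at h1
    simp only [coeff_C_mul] at h1
    rw [Matrix.mul_apply, Matrix.smul_apply, Matrix.one_apply, smul_eq_mul]
    rw [Finset.sum_congr rfl fun j _ => mul_comm (M i j) (N j l), h1]
    by_cases h : i = l
    · subst h; simp
    · rw [if_neg h, if_neg (fun h' => h (Finsupp.single_left_injective one_ne_zero h').symm)]
  refine ⟨M, ?_, fun R _ _ _ v hv => ?_⟩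
  · rw [Matrix.isUnit_iff_isUnit_det]
    refine isUnit_of_mul_isUnit_left (y := N.det) ?_
    rw [← Matrix.det_mul, hMN, Matrix.det_smul, Matrix.det_one, mul_one]
    exact hr.pow _
  · have : evalVec p v = Matrix.vecMul v (M.map (algebraMap K R)) := funext fun j => by
      show aeval v (p j) = _
      conv_lhs => rw [hlin (p j) (hd j)]
      simp [map_sum, Matrix.vecMul, dotProduct, M, mul_comm]
    rw [← this]
    exact hprep R v hv

end Groth.L11.SBAut
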