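import Groth.Agent.L11.SBAut.Split
import Mathlib.RingTheory.Localization.AtPrime.Basic
import Mathlib.RingTheory.Localization.Away.Basic
import Mathlib.RingTheory.LocalProperties.Basic

/-!
# Lines over arbitrary rings
-/

set_option autoImplicit false
set_option linter.style.haveILetI false
set_option backward.isDefEq.respectTransparency false

universe u

open scoped TensorProduct Matrix

namespace Groth.L11.SBAut

variable {k : Type u} [Field k] {A : Type u} [Ring A] [Algebra k A] {n : ℕ}
  {K : Type u} [Field K] [Algebra k K] (e : K ⊗[k] A ≃ₐ[K] Matrix (Fin n) (Fin n) K)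
  {R : Type u} [CommRing R] [Algebra k R] (σ : K →ₐ[k] R) {c : ℕ}

theorem sbMap_comp {S T : Type u} [CommRing S] [Algebra k S] [CommRing T] [Algebra k T]
    (φ : R →ₐ[k] S) (ψ : S →ₐ[k] T) (N : BrSev.SBSet k A c R) :
    sbMap (ψ.comp φ) N = sbMap ψ (sbMap φ N) :=
  Subtype.ext (Module.Grassmannian.map_comp _ φ ψ N.1)

theorem sb_eq_of_localizations {N N' : BrSev.SBSet k A c R}
    (h : ∀ P : MaximalSpectrum R, sbMap (IsScalarTower.toAlgHom k R (Localization.AtPrime P.asIdeal)) N =
      sbMap (IsScalarTower.toAlgHom k R (Localization.AtPrime P.asIdeal)) N') : N = N' :=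
  sb_eq_of_forall_map (fun P : MaximalSpectrum R => Localization.AtPrime P.asIdeal)
    (fun P => IsScalarTower.toAlgHom k R (Localization.AtPrime P.asIdeal))
    (fun r hr => eq_zero_of_localization r fun P hP => hr ⟨P, hP⟩) h

/-- Two points, one containing the other, over any ring. -/
theorem eq_of_le' {N N' : BrSev.SBSet k A c R} (h : N.1.toSubmodule ≤ N'.1.toSubmodule) : N = N' :=
  sb_eq_of_localizations fun P => eq_of_le (by
    show (Module.Grassmannian.map _ N.1).toSubmodule ≤ (Module.Grassmannian.map _ N'.1).toSubmodule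
    rw [map_eq_span, map_eq_span]
    exact Submodule.span_mono (Set.image_mono h))

theorem sbMap_lineObj' {S : Type u} [CommRing S] [Algebra k S] (φ : R →ₐ[k] S) {v : Fin n → R}
    (hv : Unimod v) :
    sbMap φ (lineObj e σ v hv) = lineObj e (φ.comp σ) (φ ∘ v) (unimod_comp hv φ.toRingHom) :=
  sb_eq_of_localizations fun P => by
    rw [← sbMap_comp, sbMap_lineObj, sbMap_lineObj]
    rfl

theorem lineObj_eq_of_par {v w : Fin n → R} (hv : Unimod v) (hw : Unimod w) (h : Par v w) :
    lineObj e σ v hv = lineObj e σ w hw :=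
  sbExt (Submodule.ext fun x => by rw [mem_lineObj, mem_lineObj, lineMat_eq_of_par R h])

theorem par_of_lineObj_eq {v w : Fin n → R} (hv : Unimod v) (hw : Unimod w)
    (h : lineObj e σ v hv = lineObj e σ w hw) : Par v w := by
  classical
  obtain ⟨i, hi⟩ := hv
  obtain ⟨x, hx⟩ := (toMat_bijective e σ).2 (Matrix.vecMulVec (Pi.single i (1 : R)) v)
  have h1 : x ∈ (lineObj e σ v ⟨i, hi⟩).1.toSubmodule := (mem_lineObj e σ _).2 (hx ▸ ⟨_, rfl⟩)
  rw [h, mem_lineObj, hx] at h1
  obtain ⟨a, ha⟩ := h1
  have h2 : v = a i • w := funext fun j => by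
    have := congrFun (congrFun ha i) j
    simpa [colMap, Matrix.vecMulVec_apply] using this.symm
  have hu : IsUnit (a i) := by
    rw [h2, Pi.smul_apply, smul_eq_mul] at hi
    exact isUnit_of_mul_isUnit_left hi
  exact Par.symm ⟨a i, hu, h2⟩

/-- Every point is a line near every prime. -/
theorem exists_away_lineObj (hn : 0 < n) (N : BrSev.SBSet k A (n * n - n) R) (P : Ideal R) [P.IsPrime] :
    ∃ r : R, r ∉ P ∧ ∃ (i : Fin n) (v : Fin n → Localization.Away r) (hv : IsUnit (v i)),
      lineObj e ((IsScalarTower.toAlgHom k R (Localization.Away r)).comp σ) v ⟨i, hv⟩ =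
        sbMap (IsScalarTower.toAlgHom k R (Localization.Away r)) N := by
  classical
  let L := Localization.AtPrime P
  let φL := IsScalarTower.toAlgHom k R L
  obtain ⟨v, ⟨i, hi⟩, hvN⟩ := exists_lineObj e (φL.comp σ) hn (sbMap φL N)
  obtain ⟨y, hy, hyP⟩ : ∃ y ∈ N.1.toSubmodule, toMat e σ y i i ∉ P := by
    by_contra hall
    push Not at hall
    obtain ⟨x, hx⟩ := (toMat_bijective e (φL.comp σ)).2 (Matrix.vecMulVec (Pi.single i (1 : L)) v)
    have h1 : x ∈ (sbMap φL N).1.toSubmodule := hvN ▸ (mem_lineObj e _ _).2 (hx ▸ ⟨_, rfl⟩)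
    change x ∈ (Module.Grassmannian.map φL N.1).toSubmodule at h1
    rw [map_eq_span] at h1
    have h2 : toMat e (φL.comp σ) x i i ∈ IsLocalRing.maximalIdeal L := by
      clear hx
      induction h1 using Submodule.span_induction with
      | mem z hz =>
        obtain ⟨y, hy, rfl⟩ := hz
        rw [toMat_bcA, Matrix.map_apply]
        exact (IsLocalization.AtPrime.to_map_mem_maximal_iff L P _).2 (hall y hy)
      | zero => simp
      | add z w _ _ hz hw => rw [map_add, Matrix.add_apply]; exact add_mem hz hw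
      | smul s z _ hz => rw [map_smul, Matrix.smul_apply]; exact Ideal.mul_mem_left _ s hz
    rw [hx, Matrix.vecMulVec_apply, Pi.single_eq_same, one_mul] at h2
    exact (IsLocalRing.mem_maximalIdeal _).1 h2 hi
  refine ⟨toMat e σ y i i, hyP, i, ?_⟩
  set r := toMat e σ y i i
  let φ := IsScalarTower.toAlgHom k R (Localization.Away r)
  let M := toMat e (φ.comp σ) (bcA φ y)
  have hM : M = (toMat e σ y).map φ := toMat_bcA e σ φ y
  have hu : IsUnit (M i i) := by
    rw [hM]
    exact IsLocalization.Away.algebraMap_isUnit r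
  refine ⟨M i, hu, eq_of_le' fun x hx => ?_⟩
  obtain ⟨a, ha⟩ := (mem_lineObj e _ _).1 hx
  obtain ⟨z, hz⟩ := (toMat_bijective e (φ.comp σ)).2 (Matrix.vecMulVec a (Pi.single i 1))
  have h1 : x = z * bcA φ y := (toMat_bijective e (φ.comp σ)).1 (by
    rw [map_mul, hz, Matrix.vecMulVec_mul, Matrix.single_one_vecMul]
    exact ha.symm)
  rw [h1]
  exact (sbMap φ N).2 z _ (bcA_mem_map φ N.1 hy)

end Groth.L11.SBAut
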