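import Groth.Agent.L11.SBAut.Split
import Groth.Agent.L11.SBAut.Yoneda
import Groth.Agent.L11.CSA.Split
import Groth.Agent.L11.CSA.Skolem
import Mathlib.RingTheory.LocalProperties.Basic
import Mathlib.LinearAlgebra.Basis.VectorSpace
import Mathlib.FieldTheory.IsAlgClosed.AlgebraicClosure
import Mathlib.FieldTheory.IsSepClosed

/-!
# The automorphism group of a Severi–Brauer variety
-/

set_option autoImplicit false
set_option linter.style.haveILetI false
set_option backward.isDefEq.respectTransparency false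

universe u

open CategoryTheory AlgebraicGeometry
open scoped TensorProduct Matrix

namespace Groth.L11.SBAut

variable {k : Type u} [Field k] {A : Type u} [Ring A] [Algebra k A]

section Transport

variable {c : ℕ} {X : Scheme.{u}} {f : X ⟶ Spec (CommRingCat.of k)} (S : BrSev.SBStr k A c f)

theorem bij_map {R T : Type u} [CommRing R] [Algebra k R] [CommRing T] [Algebra k T]
    (φ : R →ₐ[k] T) (x : BrSev.Pts f R) :
    S.bij T (BrSev.Pts.map f φ x) = sbMap φ (S.bij R x) :=
  sbExt (S.natural R T φ x)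

/-- The `R`-unit of a unit of `A`. -/
noncomputable def unitAt (w : Aˣ) (R : Type u) [CommRing R] [Algebra k R] : (R ⊗[k] A)ˣ :=
  Units.map (Algebra.TensorProduct.includeRight : A →ₐ[k] R ⊗[k] A).toMonoidHom w

theorem bcA_unitAt (w : Aˣ) {R T : Type u} [CommRing R] [Algebra k R] [CommRing T] [Algebra k T]
    (φ : R →ₐ[k] T) :
    Units.map (bcA (A := A) φ : R ⊗[k] A →ₐ[k] T ⊗[k] A).toMonoidHom (unitAt (k := k) w R) = unitAt (k := k) w T := by
  refine Units.ext ?_
  show bcA φ ((1 : R) ⊗ₜ[k] (w : A)) = (1 : T) ⊗ₜ[k] (w : A)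
  simp

/-- The transformation of points given by a unit. -/
noncomputable def transOf (w : Aˣ) : PtsHom f where
  app R _ _ x := (S.bij R).symm (rmul (unitAt (k := k) w R) (S.bij R x))
  nat R T _ _ _ _ φ x := by
    apply (S.bij T).injective
    rw [Equiv.apply_symm_apply, bij_map S, bij_map S, Equiv.apply_symm_apply, sbMap_rmul, bcA_unitAt]

theorem unitAt_mul (v w : Aˣ) (R : Type u) [CommRing R] [Algebra k R] :
    unitAt (k := k) (v * w) R = unitAt (k := k) v R * unitAt (k := k) w R :=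
  map_mul _ v w

theorem transOf_comp (v w : Aˣ) (R : Type u) [CommRing R] [Algebra k R] (x : BrSev.Pts f R) :
    (transOf S w).app R ((transOf S v).app R x) = (transOf S (v * w)).app R x := by
  apply (S.bij R).injective
  simp [transOf, unitAt_mul, rmul_mul]

theorem transOf_one (R : Type u) [CommRing R] [Algebra k R] (x : BrSev.Pts f R) :
    (transOf S 1).app R x = x := by
  simp [transOf, unitAt, rmul_one]

/-- The automorphism given by a unit. -/
noncomputable def autOf (w : Aˣ) : Aut (Over.mk f) :=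
  toAut (transOf S w⁻¹) (transOf S w)
    (fun R _ _ x => by rw [transOf_comp, inv_mul_cancel, transOf_one])
    (fun R _ _ x => by rw [transOf_comp, mul_inv_cancel, transOf_one])

theorem actPts_autOf (w : Aˣ) (R : Type u) [CommRing R] [Algebra k R] (x : BrSev.Pts f R) :
    actPts (autOf S w) R x = (transOf S w⁻¹).app R x :=
  Subtype.ext (pts_comp_toHom (transOf S w⁻¹) R x)

theorem aut_ext {g g' : Aut (Over.mk f)}
    (h : ∀ (R : Type u) [CommRing R] [Algebra k R] (x : BrSev.Pts f R), actPts g R x = actPts g' R x) :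
    g = g' :=
  Iso.ext (Over.OverMorphism.ext (hom_ext_of_pts (p := f) fun R _ _ x => congrArg Subtype.val (h R x)))

theorem actPts_mul (g g' : Aut (Over.mk f)) (R : Type u) [CommRing R] [Algebra k R]
    (x : BrSev.Pts f R) : actPts (g * g') R x = actPts g R (actPts g' R x) := by
  refine Subtype.ext ?_
  show x.1 ≫ (g * g').hom.left = (x.1 ≫ g'.hom.left) ≫ g.hom.left
  rw [Category.assoc]
  rfl

/-- The homomorphism from units to automorphisms. -/
noncomputable def autHom : Aˣ →* Aut (Over.mk f) :=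
  MonoidHom.mk' (autOf S) fun v w => aut_ext fun R _ _ x => by
    rw [actPts_mul, actPts_autOf, actPts_autOf, actPts_autOf, transOf_comp, mul_inv_rev]

theorem autOf_eq_one_iff (w : Aˣ) : autOf S w = 1 ↔
    ∀ (R : Type u) [CommRing R] [Algebra k R] (N : BrSev.SBSet k A c R), rmul (unitAt (k := k) w⁻¹ R) N = N := by
  constructor
  · intro h R _ _ N
    have h1 := congrArg (S.bij R) (actPts_autOf S w R ((S.bij R).symm N))
    rw [h] at h1
    have h2 : actPts (1 : Aut (Over.mk f)) R ((S.bij R).symm N) = (S.bij R).symm N :=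
      Subtype.ext (Category.comp_id _)
    rw [h2] at h1
    simpa [transOf] using h1.symm
  · intro h
    refine aut_ext fun R _ _ x => ?_
    rw [actPts_autOf]
    have h2 : actPts (1 : Aut (Over.mk f)) R x = x := Subtype.ext (Category.comp_id _)
    rw [h2]
    simp [transOf, h]

/-- The action of an automorphism on left ideals. -/
noncomputable def sbAct (g : Aut (Over.mk f)) (R : Type u) [CommRing R] [Algebra k R]
    (N : BrSev.SBSet k A c R) : BrSev.SBSet k A c R :=
  S.bij R (actPts g R ((S.bij R).symm N))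

theorem sbMap_sbAct (g : Aut (Over.mk f)) {R T : Type u} [CommRing R] [Algebra k R] [CommRing T]
    [Algebra k T] (φ : R →ₐ[k] T) (N : BrSev.SBSet k A c R) :
    sbMap φ (sbAct S g R N) = sbAct S g T (sbMap φ N) := by
  have h : (S.bij T).symm (sbMap φ N) = BrSev.Pts.map f φ ((S.bij R).symm N) := by
    apply (S.bij T).injective
    rw [bij_map S, Equiv.apply_symm_apply, Equiv.apply_symm_apply]
  rw [sbAct, sbAct, ← bij_map S, h, actPts_map]

theorem sbAct_inv (g : Aut (Over.mk f)) (R : Type u) [CommRing R] [Algebra k R]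
    (N : BrSev.SBSet k A c R) : sbAct S g⁻¹ R (sbAct S g R N) = N := by
  rw [sbAct, sbAct, Equiv.symm_apply_apply, actPts_inv, Equiv.apply_symm_apply]

end Transport

section Lin

variable {n : ℕ} {X : Scheme.{u}} {f : X ⟶ Spec (CommRingCat.of k)}
  (S : BrSev.SBStr k A (n * n - n) f) (hn : 0 < n)
  {K : Type u} [Field K] [Algebra k K] (e : K ⊗[k] A ≃ₐ[K] Matrix (Fin n) (Fin n) K)

/-- Restriction of scalars to `k`. -/
@[reducible] def kAlg (k K R : Type u) [Field k] [Field K] [Algebra k K] [CommRing R] [Algebra K R] :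
    Algebra k R :=
  ((algebraMap K R).comp (algebraMap k K)).toAlgebra

/-- The structure map of a `K`-algebra as a map of `k`-algebras. -/
@[reducible] def kHom (k K R : Type u) [Field k] [Field K] [Algebra k K] [CommRing R] [Algebra K R] :
    letI := kAlg k K R
    K →ₐ[k] R :=
  letI := kAlg k K R
  { algebraMap K R with commutes' := fun _ => rfl }

open Classical in
/-- The map on lines given by an automorphism. -/
noncomputable def lineApp (g : Aut (Over.mk f)) (R : Type u) [CommRing R] [IsLocalRing R]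
    [Algebra K R] (v : Fin n → R) : Fin n → R :=
  letI := kAlg k K R
  if h : Unimod v then (exists_lineObj e (kHom k K R) hn (sbAct S g R (lineObj e (kHom k K R) v h))).choose
  else v

include hn in
theorem lineApp_spec (g : Aut (Over.mk f)) (R : Type u) [CommRing R] [IsLocalRing R]
    [Algebra K R] (v : Fin n → R) (h : Unimod v) :
    letI := kAlg k K R
    ∃ h' : Unimod (lineApp S hn e g R v),
      lineObj e (kHom k K R) (lineApp S hn e g R v) h' = sbAct S g R (lineObj e (kHom k K R) v h) := by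
  letI := kAlg k K R
  rw [lineApp, dif_pos h]
  exact (exists_lineObj e (kHom k K R) hn _).choose_spec

/-- The natural map on lines given by an automorphism. -/
noncomputable def lineFun (g : Aut (Over.mk f)) : LineFun K n where
  app R _ _ _ v := lineApp S hn e g R v
  unimod R _ _ _ v h := (lineApp_spec S hn e g R v h).1
  congr R _ _ _ v w h hp := by
    letI := kAlg k K R
    obtain ⟨h1, e1⟩ := lineApp_spec S hn e g R v h
    obtain ⟨h2, e2⟩ := lineApp_spec S hn e g R w (hp.unimod h)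
    rw [← lineObj_eq_iff e (kHom k K R) h1 h2, e1, e2,
      (lineObj_eq_iff e (kHom k K R) h (hp.unimod h)).2 hp]
  nat R T _ _ _ _ _ _ ψ v h := by
    letI := kAlg k K R
    letI := kAlg k K T
    let ψ' : R →ₐ[k] T := { ψ.toRingHom with commutes' := fun c => ψ.commutes (algebraMap k K c) }
    have hσ : ψ'.comp (kHom k K R) = kHom k K T := AlgHom.ext fun c => ψ.commutes c
    obtain ⟨h1, e1⟩ := lineApp_spec S hn e g R v h
    obtain ⟨h2, e2⟩ := lineApp_spec S hn e g T (ψ ∘ v) (unimod_comp h ψ.toRingHom)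
    refine (lineObj_eq_iff e (kHom k K T) (unimod_comp h1 ψ'.toRingHom) h2).1 ?_
    have m1 := sbMap_lineObj e (kHom k K R) ψ' h1
    have m0 := sbMap_lineObj e (kHom k K R) ψ' h
    rw [e1, sbMap_sbAct, m0] at m1
    simp only [hσ] at m1
    exact (e2.trans m1).symm

include hn e in
theorem exists_unit (g : Aut (Over.mk f)) : ∃ u : (K ⊗[k] A)ˣ,
    ∀ (R : Type u) [CommRing R] [Algebra k R] [IsLocalRing R] (σ : K →ₐ[k] R)
      (N : BrSev.SBSet k A (n * n - n) R),
      sbAct S g R N = rmul (Units.map (bcA (A := A) σ : K ⊗[k] A →ₐ[k] R ⊗[k] A).toMonoidHom u) N := by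
  obtain ⟨M, hM, hMf⟩ := exists_matrix (lineFun S hn e g) (lineFun S hn e g⁻¹) fun R _ _ _ v h => by
    letI := kAlg k K R
    obtain ⟨h1, e1⟩ := lineApp_spec S hn e g R v h
    obtain ⟨h2, e2⟩ := lineApp_spec S hn e g⁻¹ R (lineApp S hn e g R v) h1
    refine (lineObj_eq_iff e (kHom k K R) h2 h).1 ?_
    rw [e2, e1, sbAct_inv]
  obtain ⟨M, rfl⟩ := hM
  let u : (K ⊗[k] A)ˣ := Units.map e.symm.toAlgHom.toMonoidHom M
  refine ⟨u, fun R _ iR _ σ N => ?_⟩
  letI iK : Algebra K R := σ.toRingHom.toAlgebra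
  have hi : kAlg k K R = iR := Algebra.algebra_ext _ _ fun c => σ.commutes c
  obtain ⟨v, hv, rfl⟩ := exists_lineObj e σ hn N
  have hmat : toMat e σ (Units.map (bcA (A := A) σ : K ⊗[k] A →ₐ[k] R ⊗[k] A).toMonoidHom u : R ⊗[k] A) =
      (M : Matrix (Fin n) (Fin n) K).map (algebraMap K R) := by
    have h0 : toMat e (AlgHom.id k K) (u : K ⊗[k] A) = (M : Matrix (Fin n) (Fin n) K) := by
      have : ∀ x : K ⊗[k] A, toMat e (AlgHom.id k K) x = e x := fun x => by
        induction x using TensorProduct.induction_on with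
        | zero => simp
        | tmul r a =>
          rw [toMat_tmul, show r ⊗ₜ[k] a = r • ((1 : K) ⊗ₜ[k] a) by simp [TensorProduct.smul_tmul'],
            map_smul]
          congr 1
        | add x y hx hy => rw [map_add, map_add, hx, hy]
      rw [this]
      exact e.apply_symm_apply _
    show toMat e (σ.comp (AlgHom.id k K)) (bcA σ (u : K ⊗[k] A)) = _
    rw [toMat_bcA, h0]
    rfl
  have hu := unimod_vecMul hv (M.isUnit.map (algebraMap K R).mapMatrix)
  rw [rmul_lineObj e σ _ hv (by rw [hmat]; exact hu)]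
  have key : ∀ (i : Algebra k R) (σ' : @AlgHom k K R _ _ _ _ i) (_ : kAlg k K R = i)
      (_ : ∀ c, σ' c = algebraMap K R c),
      @sbAct k _ A _ _ _ X f S g R _ i (@lineObj k _ A _ _ n K _ _ e R _ i σ' v hv) =
        @lineObj k _ A _ _ n K _ _ e R _ i σ' _ hu := by
    rintro i σ' rfl hσ'
    letI := kAlg k K R
    obtain rfl : σ' = kHom k K R := AlgHom.ext hσ'
    obtain ⟨h1, e1⟩ := lineApp_spec S hn e g R v hv
    rw [← e1, lineObj_eq_iff e (kHom k K R) h1 hu]
    exact hMf R v hv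
  have h3 := key iR σ hi fun c => rfl
  simp only [hmat]
  exact h3

end Lin

section Descent

variable {K : Type u} [Field K] [Algebra k K]

/-- Elements of `K` equal on both sides of `K ⊗ K` come from `k`. -/
theorem mem_range_of_tmul_comm (c : K) (h : c ⊗ₜ[k] (1 : K) = (1 : K) ⊗ₜ[k] c) :
    ∃ a : k, algebraMap k K a = c := by
  by_contra hc
  push Not at hc
  obtain ⟨f, hf⟩ : ∃ f : K →ₗ[k] k, f 1 = 0 ∧ f c = 1 := by
    have hm : c ∉ Submodule.span k ({1} : Set K) := fun hm => by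
      obtain ⟨a, ha⟩ := Submodule.mem_span_singleton.1 hm
      exact hc a (by rw [← ha, Algebra.smul_def, mul_one])
    obtain ⟨f, hfx, hfp⟩ := Submodule.exists_dual_map_eq_bot_of_notMem hm inferInstance
    refine ⟨(f c)⁻¹ • f, ?_, by simp [hfx]⟩
    have : f 1 ∈ (Submodule.span k ({1} : Set K)).map f := ⟨1, Submodule.mem_span_singleton_self 1, rfl⟩
    rw [hfp, Submodule.mem_bot] at this
    simp [this]
  have := congrArg ((TensorProduct.lid k K).toLinearMap ∘ₗ f.rTensor K) h
  simp [hf.1, hf.2] at this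

theorem exists_algHom_local (L : Type u) [CommRing L] [Algebra k L] {x y : L ⊗[k] A}
    (h : ∀ (P : Ideal L) [P.IsMaximal],
      bcA (IsScalarTower.toAlgHom k L (Localization.AtPrime P)) x =
        bcA (IsScalarTower.toAlgHom k L (Localization.AtPrime P)) y) : x = y := by
  classical
  let b := Module.Free.chooseBasis k A
  apply (b.baseChange L).repr.injective
  ext i
  have key : ∀ (T : Type u) [CommRing T] [Algebra k T] (φ : L →ₐ[k] T) (z : L ⊗[k] A),
      (b.baseChange T).repr (bcA φ z) i = φ ((b.baseChange L).repr z i) := fun T _ _ φ z => by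
    induction z using TensorProduct.induction_on with
    | zero => simp
    | tmul l a => simp
    | add a c ha hc => simp [ha, hc]
  rw [← sub_eq_zero]
  refine eq_zero_of_localization _ fun P hP => ?_
  rw [map_sub, sub_eq_zero]
  have := congrArg (fun z => (b.baseChange (Localization.AtPrime P)).repr z i) (h P)
  simp only [key] at this
  exact this

end Descent

theorem exists_pos_of_finrank {n : ℕ} [Algebra.IsCentral k A] [IsSimpleRing A]
    (hn : 0 < n) (hA : Module.finrank k A = n * n) :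
    Nonempty (AlgebraicClosure k ⊗[k] A ≃ₐ[AlgebraicClosure k]
      Matrix (Fin n) (Fin n) (AlgebraicClosure k)) := by
  haveI : FiniteDimensional k A := Module.finite_of_finrank_pos (by rw [hA]; positivity)
  obtain ⟨m, -, ⟨e⟩⟩ := Groth.L11.CSA.exists_algEquiv_matrix_baseChange k A (AlgebraicClosure k)
  have := e.toLinearEquiv.finrank_eq
  rw [Module.finrank_baseChange, hA, Module.finrank_matrix, Module.finrank_self, Fintype.card_fin,
    mul_one] at this
  obtain rfl : n = m := Nat.mul_self_inj.1 this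
  exact ⟨e⟩

variable [Algebra.IsCentral k A] [IsSimpleRing A] {n : ℕ} {X : Scheme.{u}}
  {f : X ⟶ Spec (CommRingCat.of k)} (S : BrSev.SBStr k A (n * n - n) f) (hn : 0 < n)
  (hA : Module.finrank k A = n * n)

include hn hA in
theorem autHom_ker : (autHom S).ker = (Units.map (algebraMap k A : k →* A)).range := by
  obtain ⟨e⟩ := exists_pos_of_finrank hn hA
  set K := AlgebraicClosure k
  ext w
  rw [MonoidHom.mem_ker, show autHom S w = autOf S w from rfl, autOf_eq_one_iff]
  constructor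
  · intro h
    obtain ⟨r, hr⟩ := exists_scalar K (toMat e (AlgHom.id k K) ((unitAt (k := k) w⁻¹ K : (K ⊗[k] A)ˣ) : K ⊗[k] A)) fun v hv => by
      have hu : Unimod (v ᵥ* toMat e (AlgHom.id k K) ((unitAt (k := k) w⁻¹ K : (K ⊗[k] A)ˣ) : K ⊗[k] A)) :=
        unimod_vecMul hv ((unitAt (k := k) w⁻¹ K).isUnit.map (toMat e (AlgHom.id k K)))
      have h1 := h K (lineObj e (AlgHom.id k K) v hv)
      rw [rmul_lineObj e _ _ hv hu, lineObj_eq_iff] at h1
      exact h1
    have hc : ((w⁻¹ : Aˣ) : A) ∈ Subalgebra.center k A := Subalgebra.mem_center_iff.2 fun a => by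
      apply Algebra.TensorProduct.includeRight_injective (R := k) (A := K) (B := A)
        (algebraMap k K).injective
      apply (toMat_bijective e (AlgHom.id k K)).1
      rw [map_mul, map_mul, map_mul, map_mul,
        show toMat e (AlgHom.id k K) (Algebra.TensorProduct.includeRight ((w⁻¹ : Aˣ) : A)) = r • 1 from hr]
      simp
    rw [Algebra.IsCentral.center_eq_bot, Algebra.mem_bot] at hc
    obtain ⟨a, ha⟩ := hc
    haveI : Nontrivial A := inferInstance
    have ha0 : a ≠ 0 := fun h0 => (w⁻¹).ne_zero (by rw [← ha, h0, map_zero])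
    refine ⟨(Units.mk0 a ha0)⁻¹, ?_⟩
    rw [map_inv, inv_eq_iff_eq_inv]
    exact Units.ext ha
  · rintro ⟨a, rfl⟩ R _ _ N
    refine rmul_eq_self_of_smul (r := algebraMap k R (a : k)) ?_ (a.isUnit.map _) N
    show (1 : R) ⊗ₜ[k] algebraMap k A (a : k) = _
    rw [Algebra.algebraMap_eq_smul_one, TensorProduct.tmul_smul, algebraMap_smul]
    rfl

include hn hA in
theorem autHom_surjective : Function.Surjective (autHom S) := by
  intro g
  haveI : FiniteDimensional k A := Module.finite_of_finrank_pos (by rw [hA]; positivity)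
  obtain ⟨e⟩ := exists_pos_of_finrank hn hA
  set K := AlgebraicClosure k
  obtain ⟨u, hu⟩ := exists_unit S hn e g
  -- two embeddings of `K` give translations differing by a scalar
  have hscal : ∀ (R : Type u) [CommRing R] [Algebra k R] [IsLocalRing R] (σ τ : K →ₐ[k] R),
      ∀ a : A, bcA σ ((u : K ⊗[k] A) * (1 ⊗ₜ a) * ((u⁻¹ : (K ⊗[k] A)ˣ) : K ⊗[k] A)) = bcA τ ((u : K ⊗[k] A) * (1 ⊗ₜ a) * ((u⁻¹ : (K ⊗[k] A)ˣ) : K ⊗[k] A)) := by
    intro R _ _ _ σ τ a
    let Uσ := Units.map (bcA (A := A) σ : K ⊗[k] A →ₐ[k] R ⊗[k] A).toMonoidHom u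
    let Uτ := Units.map (bcA (A := A) τ : K ⊗[k] A →ₐ[k] R ⊗[k] A).toMonoidHom u
    obtain ⟨r, hr⟩ := exists_scalar R (toMat e σ ((Uσ * Uτ⁻¹ : (R ⊗[k] A)ˣ) : R ⊗[k] A)) fun v hv => by
      have hw := unimod_vecMul hv ((Uσ * Uτ⁻¹).isUnit.map (toMat e σ))
      have h1 := rmul_lineObj e σ (Uσ * Uτ⁻¹) hv hw
      rw [rmul_mul, ← hu R σ, hu R τ, ← rmul_mul, mul_inv_cancel, rmul_one, lineObj_eq_iff] at h1
      exact h1.symm
    have h2 : ((Uσ * Uτ⁻¹ : (R ⊗[k] A)ˣ) : R ⊗[k] A) = r • 1 :=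
      (toMat_bijective e σ).1 (by rw [hr, map_smul, map_one])
    have h3 : (Uσ : R ⊗[k] A) = r • (Uτ : R ⊗[k] A) := by
      rw [← one_mul (Uτ : R ⊗[k] A), ← smul_mul_assoc, ← h2]
      simp
    have hone : ∀ ρ : K →ₐ[k] R, bcA ρ ((1 : K) ⊗ₜ a) = (1 : R) ⊗ₜ[k] a := fun ρ => by simp
    have h4 : ∀ ρ : K →ₐ[k] R, bcA ρ ((u : K ⊗[k] A) * (1 ⊗ₜ a) * ((u⁻¹ : (K ⊗[k] A)ˣ) : K ⊗[k] A)) *
        bcA ρ (u : K ⊗[k] A) = bcA ρ (u : K ⊗[k] A) * ((1 : R) ⊗ₜ[k] a) := fun ρ => by
      rw [← map_mul, mul_assoc, Units.inv_mul, mul_one, map_mul, hone]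
    apply Uσ.isUnit.mul_right_cancel
    show bcA σ _ * bcA σ (u : K ⊗[k] A) = _ * (Uσ : R ⊗[k] A)
    rw [h4 σ, show bcA σ (u : K ⊗[k] A) = (Uσ : R ⊗[k] A) from rfl, h3, mul_smul_comm, smul_mul_assoc]
    exact congrArg (r • ·) (h4 τ).symm
  -- conjugation by `u` preserves `A`
  have hdesc : ∀ a : A, ∃ a' : A, (1 : K) ⊗ₜ[k] a' = (u : K ⊗[k] A) * (1 ⊗ₜ a) * ((u⁻¹ : (K ⊗[k] A)ˣ) : K ⊗[k] A) := by
    intro a
    set z := (u : K ⊗[k] A) * (1 ⊗ₜ a) * ((u⁻¹ : (K ⊗[k] A)ˣ) : K ⊗[k] A)
    let b := Module.finBasis k A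
    have hl : bcA (Algebra.TensorProduct.includeLeft : K →ₐ[k] K ⊗[k] K) z =
        bcA (Algebra.TensorProduct.includeRight : K →ₐ[k] K ⊗[k] K) z := by
      refine exists_algHom_local (K ⊗[k] K) fun P _ => ?_
      have hc : ∀ φ : K →ₐ[k] K ⊗[k] K, bcA (IsScalarTower.toAlgHom k (K ⊗[k] K) (Localization.AtPrime P))
          (bcA φ z) = bcA ((IsScalarTower.toAlgHom k (K ⊗[k] K) (Localization.AtPrime P)).comp φ) z := by
        intro φ
        induction z using TensorProduct.induction_on with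
        | zero => simp
        | tmul l a => simp
        | add x y hx hy => simp only [map_add, hx, hy]
      rw [hc, hc]
      exact hscal _ _ _ a
    have hz : ∀ i, ∃ c : k, algebraMap k K c = (b.baseChange K).repr z i := fun i => by
      apply mem_range_of_tmul_comm
      have key : ∀ (φ : K →ₐ[k] K ⊗[k] K) (y : K ⊗[k] A),
          (b.baseChange (K ⊗[k] K)).repr (bcA φ y) i = φ ((b.baseChange K).repr y i) := fun φ y => by
        induction y using TensorProduct.induction_on with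
        | zero => simp
        | tmul l a => simp
        | add p q hp hq => simp [hp, hq]
      have := congrArg (fun y => (b.baseChange (K ⊗[k] K)).repr y i) hl
      simp only [key] at this
      exact this
    choose c hc using hz
    refine ⟨∑ i, c i • b i, ?_⟩
    rw [← (b.baseChange K).sum_repr z, TensorProduct.tmul_sum]
    refine Finset.sum_congr rfl fun i _ => ?_
    rw [← hc, Module.Basis.baseChange_apply, algebraMap_smul, TensorProduct.tmul_smul]
  choose θ hθ using hdesc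
  have hinj := Algebra.TensorProduct.includeRight_injective (R := k) (A := K) (B := A) (algebraMap k K).injective
  have hiθ : ∀ a, Algebra.TensorProduct.includeRight (θ a) = (u : K ⊗[k] A) * (1 ⊗ₜ a) * ((u⁻¹ : (K ⊗[k] A)ˣ) : K ⊗[k] A) := hθ
  let ψ : A →ₐ[k] A :=
    { toFun := θ
      map_one' := hinj (by rw [hiθ, map_one, ← Algebra.TensorProduct.one_def, mul_one, Units.mul_inv])
      map_mul' := fun a b => hinj (by
        rw [hiθ, map_mul, hiθ, hiθ, show (1 : K) ⊗ₜ[k] (a * b) = (1 ⊗ₜ a) * (1 ⊗ₜ b) by simp]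
        simp only [mul_assoc, Units.inv_mul_cancel_left])
      map_zero' := hinj (by rw [hiθ, map_zero, TensorProduct.tmul_zero, mul_zero, zero_mul])
      map_add' := fun a b => hinj (by rw [hiθ, map_add, hiθ, hiθ, TensorProduct.tmul_add, mul_add, add_mul])
      commutes' := fun c => hinj (by
        rw [hiθ, AlgHom.commutes, Algebra.algebraMap_eq_smul_one (A := A), TensorProduct.tmul_smul,
          ← Algebra.TensorProduct.one_def, mul_smul_comm, smul_mul_assoc, mul_one, Units.mul_inv,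
          Algebra.algebraMap_eq_smul_one]) }
  obtain ⟨w, hw⟩ := Groth.L11.CSA.skolem_noether k A ψ (AlgHom.id k A)
  -- `u` is a scalar multiple of `w`
  let W := unitAt (k := k) w K
  have hcomm : ∀ a : A, ((W⁻¹ * u : (K ⊗[k] A)ˣ) : K ⊗[k] A) * (1 ⊗ₜ a) =
      (1 ⊗ₜ a) * ((W⁻¹ * u : (K ⊗[k] A)ˣ) : K ⊗[k] A) := fun a => by
    have h1 : (u : K ⊗[k] A) * (1 ⊗ₜ a) * ((u⁻¹ : (K ⊗[k] A)ˣ) : K ⊗[k] A) = (W : K ⊗[k] A) * (1 ⊗ₜ a) * ((W⁻¹ : (K ⊗[k] A)ˣ) : K ⊗[k] A) := by
      rw [← hθ a, show θ a = (w : A) * a * ↑w⁻¹ from hw a]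
      show (Algebra.TensorProduct.includeRight ((w : A) * a * ↑w⁻¹) : K ⊗[k] A) = _
      rw [map_mul, map_mul]
      rfl
    rw [Units.val_mul, mul_assoc]
    calc (((W⁻¹ : (K ⊗[k] A)ˣ) : K ⊗[k] A) : K ⊗[k] A) * ((u : K ⊗[k] A) * (1 ⊗ₜ a))
        = ((W⁻¹ : (K ⊗[k] A)ˣ) : K ⊗[k] A) * ((u : K ⊗[k] A) * (1 ⊗ₜ a) * ((u⁻¹ : (K ⊗[k] A)ˣ) : K ⊗[k] A) * (u : K ⊗[k] A)) := by simp
      _ = ((W⁻¹ : (K ⊗[k] A)ˣ) : K ⊗[k] A) * ((W : K ⊗[k] A) * (1 ⊗ₜ a) * ((W⁻¹ : (K ⊗[k] A)ˣ) : K ⊗[k] A) * (u : K ⊗[k] A)) := by rw [h1]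
      _ = _ := by simp [mul_assoc]
  have hcen : ∀ y : K ⊗[k] A, ((W⁻¹ * u : (K ⊗[k] A)ˣ) : K ⊗[k] A) * y =
      y * ((W⁻¹ * u : (K ⊗[k] A)ˣ) : K ⊗[k] A) := fun y => by
    induction y using TensorProduct.induction_on with
    | zero => simp
    | tmul r a =>
      rw [show r ⊗ₜ[k] a = r • ((1 : K) ⊗ₜ[k] a) by simp [TensorProduct.smul_tmul'], mul_smul_comm,
        smul_mul_assoc, hcomm]
    | add x y hx hy => rw [mul_add, add_mul, hx, hy]
  obtain ⟨r, hr⟩ : ∃ r : K, ((W⁻¹ * u : (K ⊗[k] A)ˣ) : K ⊗[k] A) = r • 1 := by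
    have h1 : e ((W⁻¹ * u : (K ⊗[k] A)ˣ) : K ⊗[k] A) ∈ Subalgebra.center K (Matrix (Fin n) (Fin n) K) :=
      Subalgebra.mem_center_iff.2 fun M => by
        obtain ⟨y, rfl⟩ := e.surjective M
        rw [← map_mul, ← map_mul, hcen]
    haveI : Nonempty (Fin n) := ⟨⟨0, hn⟩⟩
    rw [Algebra.IsCentral.center_eq_bot, Algebra.mem_bot] at h1
    obtain ⟨r, hr⟩ := h1
    exact ⟨r, e.injective (by rw [← hr, map_smul, map_one, Algebra.algebraMap_eq_smul_one])⟩
  refine ⟨w⁻¹, aut_ext fun R _ _ x => ?_⟩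
  rw [show autHom S w⁻¹ = autOf S w⁻¹ from rfl, actPts_autOf, inv_inv]
  apply (S.bij R).injective
  simp only [transOf, Equiv.apply_symm_apply]
  rw [show S.bij R (actPts g R x) = sbAct S g R (S.bij R x) by rw [sbAct, Equiv.symm_apply_apply]]
  set N := S.bij R x
  -- test on the local rings of `K ⊗ R`
  let L := K ⊗[k] R
  let φ : ∀ P : MaximalSpectrum L, R →ₐ[k] Localization.AtPrime P.asIdeal := fun P =>
    (IsScalarTower.toAlgHom k L (Localization.AtPrime P.asIdeal)).comp Algebra.TensorProduct.includeRight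
  refine sb_eq_of_forall_map (fun P : MaximalSpectrum L => Localization.AtPrime P.asIdeal) φ
    (fun r hr => ?_) fun P => ?_
  · apply Algebra.TensorProduct.includeRight_injective (R := k) (A := K) (B := R) (algebraMap k K).injective
    rw [map_zero]
    exact eq_zero_of_localization _ fun P hP => hr ⟨P, hP⟩
  · rw [sbMap_rmul, bcA_unitAt, sbMap_sbAct]
    let T := Localization.AtPrime P.asIdeal
    let σ : K →ₐ[k] T := (IsScalarTower.toAlgHom k L T).comp Algebra.TensorProduct.includeLeft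
    rw [hu T σ]
    set N' := sbMap (φ P) N
    let D := Units.map (bcA (A := A) σ : K ⊗[k] A →ₐ[k] T ⊗[k] A).toMonoidHom (W⁻¹ * u)
    have hU : Units.map (bcA (A := A) σ : K ⊗[k] A →ₐ[k] T ⊗[k] A).toMonoidHom u = unitAt (k := k) w T * D := by
      rw [← bcA_unitAt w σ, ← map_mul]
      simp [W]
    rw [hU, rmul_mul]
    symm
    have hD : (D : T ⊗[k] A) = σ r • 1 := by
      show bcA σ ((W⁻¹ * u : (K ⊗[k] A)ˣ) : K ⊗[k] A) = _
      rw [hr, show r • (1 : K ⊗[k] A) = r ⊗ₜ[k] (1 : A) by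
        rw [Algebra.TensorProduct.one_def, TensorProduct.smul_tmul', smul_eq_mul, mul_one],
        Algebra.TensorProduct.map_tmul, AlgHom.id_apply, Algebra.TensorProduct.one_def,
        TensorProduct.smul_tmul', smul_eq_mul, mul_one]
    have hr0 : IsUnit r := by
      refine isUnit_iff_ne_zero.2 fun h0 => ?_
      haveI : Nonempty (Fin n) := ⟨⟨0, hn⟩⟩
      haveI : Nontrivial (K ⊗[k] A) := e.surjective.nontrivial
      exact (W⁻¹ * u).ne_zero (by rw [hr, h0, zero_smul])
    refine rmul_eq_self_of_smul (r := ↑(hr0.map σ).unit⁻¹) ?_ (Units.isUnit _) _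
    refine Units.inv_eq_of_mul_eq_one_right ?_
    rw [hD, smul_mul_smul_comm, one_mul, IsUnit.mul_val_inv, one_smul]

end Groth.L11.SBAut
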