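import Groth.Agent.L11.SBAut.Ideals
import Groth.Agent.L11.SBAut.Linear
import Mathlib.RingTheory.MatrixAlgebra
import Mathlib.RingTheory.LocalRing.Module
import Mathlib.RingTheory.LocalRing.ResidueField.Basic
import Mathlib.LinearAlgebra.Matrix.Basis
import Mathlib.RingTheory.Spectrum.Prime.FreeLocus
import Mathlib.RingTheory.OrzechProperty

/-!
# Left ideals with projective quotient of rank `n ^ 2 - n` of a split algebra are lines
-/

set_option autoImplicit false
set_option linter.style.haveILetI false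
set_option backward.isDefEq.respectTransparency false

universe u

open scoped TensorProduct Matrix

namespace Groth.L11.SBAut

section Lines

variable (R : Type u) [CommRing R] {n : ℕ}

/-- `a ↦ a ⊗ v`. -/
def colMap (v : Fin n → R) : (Fin n → R) →ₗ[R] Matrix (Fin n) (Fin n) R where
  toFun a := Matrix.vecMulVec a v
  map_add' a b := Matrix.add_vecMulVec a b v
  map_smul' r a := Matrix.smul_vecMulVec r a v

/-- Matrices with rows in the line of `v`. -/
def lineMat (v : Fin n → R) : Submodule R (Matrix (Fin n) (Fin n) R) := LinearMap.range (colMap R v)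

theorem exists_quot {v : Fin n → R} (hv : Unimod v) :
    ∃ π : Matrix (Fin n) (Fin n) R →ₗ[R] (Fin (n * n - n) → R),
      Function.Surjective π ∧ LinearMap.ker π = lineMat R v := by
  classical
  obtain ⟨i, hi⟩ := hv
  obtain ⟨a, ha⟩ := hi
  have hcard : Fintype.card (Fin n × {j : Fin n // j ≠ i}) = n * n - n := by
    rw [Fintype.card_prod, Fintype.card_fin, Fintype.card_subtype_compl, Fintype.card_fin,
      Fintype.card_subtype_eq, Nat.mul_sub, mul_one]
  let e := Fintype.equivFinOfCardEq hcard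
  let π₀ : Matrix (Fin n) (Fin n) R →ₗ[R] (Fin n × {j : Fin n // j ≠ i} → R) :=
    { toFun := fun M x => M x.1 x.2 - M x.1 i * ↑a⁻¹ * v x.2
      map_add' := fun M N => funext fun x => by simp only [Matrix.add_apply, Pi.add_apply]; ring
      map_smul' := fun r M => funext fun x => by
        simp only [Matrix.smul_apply, smul_eq_mul, RingHom.id_apply, Pi.smul_apply]; ring }
  refine ⟨(LinearEquiv.funCongrLeft R R e.symm).toLinearMap ∘ₗ π₀, ?_, ?_⟩
  · rw [LinearMap.coe_comp]
    refine (LinearEquiv.funCongrLeft R R e.symm).surjective.comp fun y => ?_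
    refine ⟨fun l j => if h : j = i then 0 else y (l, ⟨j, h⟩), funext fun x => ?_⟩
    simp [π₀, x.2.2]
  · rw [LinearEquiv.ker_comp]
    refine le_antisymm ?_ ?_
    · intro M hM
      refine ⟨fun l => M l i * ↑a⁻¹, ?_⟩
      refine Matrix.ext fun l j => ?_
      show M l i * ↑a⁻¹ * v j = M l j
      by_cases h : j = i
      · subst h
        rw [← ha, Units.inv_mul_cancel_right]
      · exact (sub_eq_zero.1 (congrFun hM (l, ⟨j, h⟩))).symm
    · rintro _ ⟨b, rfl⟩
      rw [LinearMap.mem_ker]
      funext x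
      show b x.1 * v x.2 - b x.1 * v i * ↑a⁻¹ * v x.2 = 0
      rw [← ha, Units.mul_inv_cancel_right, sub_self]

theorem lineMat_mem_mul {v : Fin n → R} (M : Matrix (Fin n) (Fin n) R) {x : Matrix (Fin n) (Fin n) R}
    (hx : x ∈ lineMat R v) : M * x ∈ lineMat R v := by
  obtain ⟨a, rfl⟩ := hx
  exact ⟨M *ᵥ a, (Matrix.mul_vecMulVec M a v).symm⟩

theorem par_of_lineMat_eq {v w : Fin n → R} [IsLocalRing R] (hv : Unimod v)
    (h : lineMat R v = lineMat R w) : Par v w := by
  classical
  obtain ⟨i, hi⟩ := hv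
  have h1 : Matrix.vecMulVec (Pi.single i (1 : R)) v ∈ lineMat R w := h ▸ ⟨_, rfl⟩
  obtain ⟨a, ha⟩ := h1
  have h2 : v = a i • w := funext fun j => by
    have := congrFun (congrFun ha i) j
    simpa [colMap, Matrix.vecMulVec_apply] using this.symm
  have hu : IsUnit (a i) := by
    rw [h2, Pi.smul_apply, smul_eq_mul] at hi
    exact isUnit_of_mul_isUnit_left hi
  exact Par.symm ⟨a i, hu, h2⟩

theorem lineMat_eq_of_par {v w : Fin n → R} (h : Par v w) : lineMat R v = lineMat R w := by
  obtain ⟨c, ⟨c, rfl⟩, rfl⟩ := h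
  ext M
  constructor
  · rintro ⟨a, rfl⟩
    exact ⟨(↑c⁻¹ : R) • a, by ext; simp [colMap, Matrix.vecMulVec_apply, mul_left_comm, mul_assoc]; rw [mul_left_comm (c : R), Units.mul_inv_cancel_left]⟩
  · rintro ⟨a, rfl⟩
    exact ⟨(↑c : R) • a, by ext; simp [colMap, Matrix.vecMulVec_apply, mul_left_comm, mul_assoc]⟩

/-- A matrix fixing all lines over a local ring is scalar. -/
theorem exists_scalar [IsLocalRing R] (U : Matrix (Fin n) (Fin n) R)
    (h : ∀ v : Fin n → R, Unimod v → Par (v ᵥ* U) v) : ∃ r : R, U = r • 1 := by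
  classical
  rcases Nat.eq_zero_or_pos n with h0 | hn
  · subst h0; exact ⟨0, Subsingleton.elim _ _⟩
  have hoff : ∀ i j, i ≠ j → U i j = 0 := fun i j hij => by
    obtain ⟨c, hc, he⟩ := (h (Pi.single i 1) ⟨i, by simp⟩).symm
    have := congrFun he j
    simpa [Matrix.single_one_vecMul, hij.symm] using this
  let i₀ : Fin n := ⟨0, hn⟩
  refine ⟨U i₀ i₀, ?_⟩
  obtain ⟨c, hc, he⟩ := (h (fun _ => 1) ⟨i₀, isUnit_one⟩).symm
  have hd : ∀ j, U j j = c := fun j => by
    have := congrFun he j
    rw [Matrix.vecMul, dotProduct, Finset.sum_eq_single j (fun i _ hij => by simp [hoff i j hij])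
      (fun hj => absurd (Finset.mem_univ j) hj)] at this
    simpa using this
  ext i j
  by_cases hij : i = j
  · subst hij; simp [hd]
  · simp [hoff i j hij, hij]

end Lines

section Split

variable {k : Type u} [Field k] {A : Type u} [Ring A] [Algebra k A] {n : ℕ}
  {K : Type u} [Field K] [Algebra k K] (e : K ⊗[k] A ≃ₐ[K] Matrix (Fin n) (Fin n) K)
  {R : Type u} [CommRing R] [Algebra k R] (σ : K →ₐ[k] R)

/-- The splitting over an algebra over the splitting field. -/
noncomputable def toMat : R ⊗[k] A →ₐ[R] Matrix (Fin n) (Fin n) R :=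
  Algebra.TensorProduct.lift (Algebra.ofId R (Matrix (Fin n) (Fin n) R))
    ((σ.mapMatrix).comp ((e.toAlgHom.restrictScalars k).comp Algebra.TensorProduct.includeRight))
    fun r a => Algebra.commutes r _

theorem toMat_tmul (r : R) (a : A) :
    toMat e σ (r ⊗ₜ[k] a) = r • (e (1 ⊗ₜ[k] a)).map σ := by
  rw [toMat, Algebra.TensorProduct.lift_tmul, Algebra.ofId_apply, ← Algebra.smul_def]
  rfl

theorem toMat_bcA {S : Type u} [CommRing S] [Algebra k S] (φ : R →ₐ[k] S) (x : R ⊗[k] A) :
    toMat e (φ.comp σ) (bcA φ x) = (toMat e σ x).map φ := by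
  induction x using TensorProduct.induction_on with
  | zero => ext; simp
  | tmul r a =>
    rw [Algebra.TensorProduct.map_tmul, AlgHom.id_apply, toMat_tmul, toMat_tmul]
    ext i j
    simp [map_mul]
  | add x y hx hy =>
    rw [map_add, map_add, map_add, hx, hy]
    ext i j
    simp

theorem toMat_bijective : Function.Bijective (toMat e σ) := by
  letI : Algebra K R := σ.toAlgebra
  letI : IsScalarTower k K R := IsScalarTower.of_algebraMap_eq' σ.comp_algebraMap.symm
  let E1 := (TensorProduct.AlgebraTensorModule.cancelBaseChange k K R R A).symm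
  let E2 := LinearEquiv.baseChange K R _ _ e.toLinearEquiv
  let E3 := (matrixEquivTensor (Fin n) K R).symm
  let E : R ⊗[k] A → Matrix (Fin n) (Fin n) R := fun x => E3 (E2 (E1 x))
  have hb : Function.Bijective E := E3.bijective.comp (E2.bijective.comp E1.bijective)
  have hE : ∀ x, E x = toMat e σ x := fun x => by
    induction x using TensorProduct.induction_on with
    | zero => simp [E]
    | tmul r a =>
      rw [toMat_tmul]
      simp [E, E1, E2, E3, RingHom.algebraMap_toAlgebra]
    | add x y hx hy =>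
      rw [map_add, ← hx, ← hy]
      simp [E]
  exact (funext hE : E = toMat e σ) ▸ hb

/-- The splitting as an equivalence. -/
noncomputable def toMatEquiv : R ⊗[k] A ≃ₐ[R] Matrix (Fin n) (Fin n) R :=
  AlgEquiv.ofBijective (toMat e σ) (toMat_bijective e σ)

variable (hn : 0 < n)

/-- The left ideal of a line. -/
noncomputable def lineObj (v : Fin n → R) (hv : Unimod v) : BrSev.SBSet k A (n * n - n) R :=
  let π := (exists_quot R hv).choose.comp (toMatEquiv e σ).toLinearMap
  let q := π.quotKerEquivOfSurjective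
    ((exists_quot R hv).choose_spec.1.comp (toMatEquiv e σ).surjective)
  ⟨{ toSubmodule := LinearMap.ker π
     finite_quotient := Module.Finite.equiv q.symm
     projective_quotient := Module.Projective.of_equiv q.symm
     rankAtStalk_eq := fun p => by
      haveI : Nontrivial R := p.nontrivial
      rw [Module.rankAtStalk_eq_of_equiv q, Module.rankAtStalk_eq_finrank_of_free]
      simp }, fun a x hx => by
    have h : ∀ y, y ∈ LinearMap.ker π ↔ toMatEquiv e σ y ∈ lineMat R v := fun y => by
      rw [← (exists_quot R hv).choose_spec.2]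
      rfl
    rw [h] at hx ⊢
    rw [map_mul]
    exact lineMat_mem_mul R _ hx⟩

theorem mem_lineObj {v : Fin n → R} (hv : Unimod v) {x : R ⊗[k] A} :
    x ∈ (lineObj e σ v hv).1.toSubmodule ↔ toMat e σ x ∈ lineMat R v := by
  rw [← (exists_quot R hv).choose_spec.2]
  rfl

theorem lineObj_eq_iff [IsLocalRing R] {v w : Fin n → R} (hv : Unimod v) (hw : Unimod w) :
    lineObj e σ v hv = lineObj e σ w hw ↔ Par v w := by
  refine ⟨fun h => par_of_lineMat_eq R hv ?_, fun h => sbExt (Submodule.ext fun x => ?_)⟩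
  · ext M
    obtain ⟨x, rfl⟩ := (toMat_bijective e σ).2 M
    rw [← mem_lineObj e σ hv, ← mem_lineObj e σ hw, h]
  · rw [mem_lineObj, mem_lineObj, lineMat_eq_of_par R h]

theorem unimod_comp {S : Type u} [CommRing S] {v : Fin n → R} (hv : Unimod v) (φ : R →+* S) :
    Unimod (φ ∘ v) :=
  hv.imp fun _ h => h.map φ

theorem unimod_vecMul [IsLocalRing R] {v : Fin n → R} (hv : Unimod v) {U : Matrix (Fin n) (Fin n) R}
    (hU : IsUnit U) : Unimod (v ᵥ* U) := by
  by_contra h
  obtain ⟨U, rfl⟩ := hU
  obtain ⟨i, hi⟩ := hv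
  refine IsLocalRing.maximalIdeal.isMaximal R |>.ne_top (Ideal.eq_top_of_isUnit_mem _ ?_ hi)
  have : v i = ((v ᵥ* (U : Matrix (Fin n) (Fin n) R)) ᵥ* (↑U⁻¹ : Matrix (Fin n) (Fin n) R)) i := by
    rw [Matrix.vecMul_vecMul, Units.mul_inv, Matrix.vecMul_one]
  rw [this, Matrix.vecMul, dotProduct]
  exact Ideal.sum_mem _ fun j _ => Ideal.mul_mem_right _ _
    ((IsLocalRing.mem_maximalIdeal _).2 fun hj => h ⟨j, hj⟩)

theorem rmul_lineObj (u : (R ⊗[k] A)ˣ) {v : Fin n → R} (hv : Unimod v)
    (hw : Unimod (v ᵥ* toMat e σ u)) :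
    rmul u (lineObj e σ v hv) = lineObj e σ (v ᵥ* toMat e σ u) hw := by
  refine sbExt (Submodule.ext fun x => ?_)
  rw [mem_rmul, mem_lineObj, mem_lineObj, map_mul]
  constructor
  · rintro ⟨a, ha⟩
    refine ⟨a, ?_⟩
    show Matrix.vecMulVec a (v ᵥ* _) = _
    rw [← Matrix.vecMulVec_mul, show Matrix.vecMulVec a v = _ from ha, mul_assoc, ← map_mul,
      Units.inv_mul, map_one, mul_one]
  · rintro ⟨a, ha⟩
    refine ⟨a, ?_⟩
    show Matrix.vecMulVec a v = _
    rw [← show Matrix.vecMulVec a (v ᵥ* _) = _ from ha, ← Matrix.vecMulVec_mul, mul_assoc, ← map_mul,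
      Units.mul_inv, map_one, mul_one]

/-- Two points, one containing the other, over a local ring. -/
theorem eq_of_le [IsLocalRing R] {c : ℕ} {N N' : BrSev.SBSet k A c R}
    (h : N.1.toSubmodule ≤ N'.1.toSubmodule) : N = N' := by
  haveI := N.1.finite_quotient
  haveI := N'.1.finite_quotient
  haveI := N.1.projective_quotient
  haveI := N'.1.projective_quotient
  haveI := Module.free_of_flat_of_isLocalRing (R := R) (P := (R ⊗[k] A) ⧸ N.1.toSubmodule)
  haveI := Module.free_of_flat_of_isLocalRing (R := R) (P := (R ⊗[k] A) ⧸ N'.1.toSubmodule)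
  have e0 := N.1.rankAtStalk_eq ⟨IsLocalRing.maximalIdeal R, inferInstance⟩
  have e1 := N'.1.rankAtStalk_eq ⟨IsLocalRing.maximalIdeal R, inferInstance⟩
  rw [Module.rankAtStalk_eq_finrank_of_free] at e0 e1
  simp only [Pi.natCast_def, Nat.cast_id] at e0 e1
  let E := LinearEquiv.ofFinrankEq ((R ⊗[k] A) ⧸ N'.1.toSubmodule) ((R ⊗[k] A) ⧸ N.1.toSubmodule)
    (e1.trans e0.symm)
  let p := Submodule.factor h
  have hp : Function.Surjective p := Submodule.factor_surjective h
  have hbij : Function.Injective (E.toLinearMap ∘ₗ p) :=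
    (OrzechProperty.bijective_of_surjective_endomorphism _ (E.surjective.comp hp)).1
  refine sbExt (le_antisymm h fun x hx => ?_)
  rw [← Submodule.Quotient.mk_eq_zero]
  refine hbij (?_ : E (p (Submodule.Quotient.mk x)) = E (p 0))
  rw [map_zero, show p (Submodule.Quotient.mk x) = Submodule.Quotient.mk x from rfl,
    (Submodule.Quotient.mk_eq_zero _).2 hx]

include hn in
/-- Every point over a local ring is a line. -/
theorem exists_lineObj [IsLocalRing R] (N : BrSev.SBSet k A (n * n - n) R) :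
    ∃ v : Fin n → R, ∃ hv : Unimod v, lineObj e σ v hv = N := by
  classical
  let T := toMatEquiv e σ
  let J : Submodule R (Matrix (Fin n) (Fin n) R) := N.1.toSubmodule.map T.toLinearMap
  have hJ : ∀ (M x : Matrix (Fin n) (Fin n) R), x ∈ J → M * x ∈ J := by
    rintro M _ ⟨y, hy, rfl⟩
    exact ⟨T.symm M * y, N.2 _ y hy, (map_mul T _ _).trans (by rw [T.apply_symm_apply]; rfl)⟩
  by_cases hex : ∃ M ∈ J, ∃ l, Unimod (M l)
  · obtain ⟨M, hM, l, hv⟩ := hex
    refine ⟨M l, hv, eq_of_le (k := k) fun x hx => ?_⟩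
    obtain ⟨a, ha⟩ := (mem_lineObj e σ hv).1 hx
    have h1 : Matrix.vecMulVec a (M l) = Matrix.vecMulVec a (Pi.single l 1) * M := by
      rw [Matrix.vecMulVec_mul, Matrix.single_one_vecMul]
      rfl
    obtain ⟨y, hy, hye⟩ := h1 ▸ hJ (Matrix.vecMulVec a (Pi.single l 1)) M hM
    rwa [← show y = x from T.injective (hye.trans ha)]
  · exfalso
    haveI := N.1.finite_quotient
    haveI := N.1.projective_quotient
    haveI := Module.free_of_flat_of_isLocalRing (R := R) (P := (R ⊗[k] A) ⧸ N.1.toSubmodule)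
    have e0 := N.1.rankAtStalk_eq ⟨IsLocalRing.maximalIdeal R, inferInstance⟩
    rw [Module.rankAtStalk_eq_finrank_of_free] at e0
    simp only [Pi.natCast_def, Nat.cast_id] at e0
    let κ := IsLocalRing.ResidueField R
    let ρ : R ⊗[k] A →ₗ[R] Matrix (Fin n) (Fin n) κ :=
      (Algebra.linearMap R κ).mapMatrix ∘ₗ T.toLinearMap
    have hker : N.1.toSubmodule ≤ LinearMap.ker ρ := fun x hx => by
      rw [LinearMap.mem_ker]
      ext l j
      show algebraMap R κ (T x l j) = 0
      rw [IsLocalRing.ResidueField.algebraMap_eq, IsLocalRing.residue_eq_zero_iff]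
      intro hu
      exact hex ⟨T x, ⟨x, hx, rfl⟩, l, j, hu⟩
    let ρ' := N.1.toSubmodule.liftQ ρ hker
    have hρ' : Function.Surjective ρ' := by
      intro y
      have hy : ∀ l j, ∃ r : R, algebraMap R κ r = y l j := fun l j => IsLocalRing.residue_surjective _
      choose r hr using hy
      exact ⟨Submodule.Quotient.mk (T.symm (Matrix.of r)), by ext l j; simp [ρ', ρ, hr]⟩
    let b := Module.finBasis R ((R ⊗[k] A) ⧸ N.1.toSubmodule)
    have hspan : ⊤ ≤ Submodule.span κ (Set.range (ρ' ∘ b)) := by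
      rintro y -
      obtain ⟨x, rfl⟩ := hρ' y
      rw [← b.sum_repr x, map_sum]
      refine sum_mem fun i _ => ?_
      rw [map_smul, ← algebraMap_smul κ]
      exact Submodule.smul_mem _ _ (Submodule.subset_span ⟨i, rfl⟩)
    have h2 : Module.finrank κ (Matrix (Fin n) (Fin n) κ) ≤
        Module.finrank R ((R ⊗[k] A) ⧸ N.1.toSubmodule) := by
      have := finrank_range_le_card (R := κ) (ρ' ∘ b)
      rw [Set.finrank, top_le_iff.1 hspan, finrank_top, Fintype.card_fin] at this
      exact this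
    rw [Module.finrank_matrix, Module.finrank_self, Fintype.card_fin, mul_one, e0] at h2
    have : 1 ≤ n * n := Nat.one_le_iff_ne_zero.2 (Nat.mul_ne_zero (by omega) (by omega))
    omega

theorem sbMap_lineObj {S : Type u} [CommRing S] [Algebra k S] [IsLocalRing S] (φ : R →ₐ[k] S)
    {v : Fin n → R} (hv : Unimod v) :
    sbMap φ (lineObj e σ v hv) = lineObj e (φ.comp σ) (φ ∘ v) (unimod_comp hv φ.toRingHom) := by
  classical
  refine (eq_of_le ?_).symm
  intro x hx
  obtain ⟨a, ha⟩ := (mem_lineObj e (φ.comp σ) _).1 hx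
  let T' := toMatEquiv e (φ.comp σ)
  have hT : x = T'.symm (Matrix.vecMulVec a (φ ∘ v)) := by
    apply T'.injective
    rw [T'.apply_symm_apply]
    exact ha.symm
  have hsum : Matrix.vecMulVec a (φ ∘ v) =
      ∑ i, a i • Matrix.vecMulVec (Pi.single i (1 : S)) (φ ∘ v) := by
    ext l j
    simp [Matrix.sum_apply, Matrix.vecMulVec_apply, Pi.single_apply]
  rw [hT, hsum, map_sum]
  refine Submodule.sum_mem _ fun i _ => ?_
  rw [map_smul]
  refine Submodule.smul_mem _ _ ?_
  obtain ⟨y, hy⟩ := (toMat_bijective e σ).2 (Matrix.vecMulVec (Pi.single i (1 : R)) v)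
  have hy' : bcA φ y = T'.symm (Matrix.vecMulVec (Pi.single i (1 : S)) (φ ∘ v)) := by
    apply T'.injective
    rw [T'.apply_symm_apply]
    show toMat e (φ.comp σ) (bcA φ y) = _
    rw [toMat_bcA, hy]
    ext l j
    by_cases hl : l = i <;> simp [Matrix.vecMulVec_apply, Pi.single_apply, hl]
  rw [← hy']
  exact bcA_mem_map φ _ ((mem_lineObj e σ hv).2 (hy ▸ ⟨_, rfl⟩))

end Split

end Groth.L11.SBAut
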